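import Cfsg.Prelude.Def_Exceptional
import Cfsg.Prelude.Def_Classical
import Cfsg.Prelude.Def_Sz
import Cfsg.Agent.Lib.Lie.Sz.SylowLie
import Cfsg.Agent.Lib.Invol.ZStar
import Cfsg.Agent.Lib.Transfer.RankOne.Structure

/-!
Consequences of the classification of the rank-one set-up for simple groups: the classification as a hypothesis,
its form for a simple group, and two commuting involutions in a simple group.
-/

set_option autoImplicit false
set_option linter.unusedSectionVars false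
set_option linter.style.haveILetI false

namespace Cfsg.Agent.Transfer.RankOneCor

open MulAction

universe u v

/-- The classification of the rank-one set-up with two commuting involutions, as a hypothesis. -/
def Classif : Prop :=
  ∀ {G : Type u} {Ω : Type v} [Group G] [Finite G] [MulAction G Ω] [FaithfulSMul G Ω] {a : Ω} {t : G} {Q : Subgroup G},
    Cfsg.IsRankOneSetup G Ω a t Q →
    (∃ x y : G, x ≠ 1 ∧ y ≠ 1 ∧ x ≠ y ∧ x * x = 1 ∧ y * y = 1 ∧ x * y = y * x) →
    ∃ L : Subgroup G, L.Normal ∧ Odd L.index ∧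
      ((∃ (F : Type) (_ : Field F) (_ : Fintype F), (∃ n : ℕ, 2 ≤ n ∧ Fintype.card F = 2 ^ n) ∧
          Nonempty (L ≃* Matrix.ProjectiveSpecialLinearGroup (Fin 2) F)) ∨
        Cfsg.Lie.IsoSuzuki L ∨
        (∃ (F : Type) (_ : Field F) (_ : Fintype F) (n : ℕ), 2 ≤ n ∧ Fintype.card F = (2 ^ n) ^ 2 ∧
          Nonempty (L ≃* Cfsg.PSU 3 F (2 ^ n))))

section Simple

variable {G : Type u} {Ω : Type v} [Group G] [Finite G] [IsSimpleGroup G] [MulAction G Ω] [FaithfulSMul G Ω]
  {a : Ω} {t : G} {Q : Subgroup G}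

/-- For a simple group the normal subgroup of odd index is the whole group. -/
theorem simple_form (hC : Classif.{u, v}) (hS : Cfsg.IsRankOneSetup G Ω a t Q)
    (h2 : ∃ x y : G, x ≠ 1 ∧ y ≠ 1 ∧ x ≠ y ∧ x * x = 1 ∧ y * y = 1 ∧ x * y = y * x) :
    (∃ (F : Type) (_ : Field F) (_ : Fintype F) (n : ℕ), 2 ≤ n ∧ Fintype.card F = 2 ^ n ∧
        Nonempty (G ≃* Matrix.ProjectiveSpecialLinearGroup (Fin 2) F)) ∨
      Cfsg.IsSuzuki G ∨
      (∃ (F : Type) (_ : Field F) (_ : Fintype F) (n : ℕ), 2 ≤ n ∧ Fintype.card F = (2 ^ n) ^ 2 ∧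
        Nonempty (G ≃* Cfsg.PSU 3 F (2 ^ n))) := by
  obtain ⟨L, hL, hodd, h⟩ := hC hS h2
  obtain rfl : L = ⊤ := by
    rcases hL.eq_bot_or_eq_top with rfl | h'
    · exfalso
      rw [Subgroup.index_bot] at hodd
      obtain ⟨x, -, hx, -, -, hx2, -⟩ := h2
      have h2' : orderOf x = 2 := orderOf_eq_prime (by rw [pow_two]; exact hx2) hx
      exact Nat.not_even_iff_odd.2 hodd (even_iff_two_dvd.2 (h2' ▸ orderOf_dvd_natCard x))
    · exact h'
  rcases h with ⟨F, iF, iFF, ⟨n, hn, hq⟩, ⟨e⟩⟩ | h | ⟨F, iF, iFF, n, hn, hq, ⟨e⟩⟩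
  · exact Or.inl ⟨F, iF, iFF, n, hn, hq, ⟨Subgroup.topEquiv.symm.trans e⟩⟩
  · obtain ⟨F, iF, iFF, m, hm, hq, ⟨e⟩⟩ := h
    refine Or.inr (Or.inl ⟨‹_›, m, hm, ?_⟩)
    rw [Nat.card_congr (Subgroup.topEquiv.symm.trans e).toEquiv, (Suz.lie_structure (F := F) ⟨hm, hq⟩).1]
    ring
  · exact Or.inr (Or.inr ⟨F, iF, iFF, n, hn, hq, ⟨Subgroup.topEquiv.symm.trans e⟩⟩)

/-- The regular normal subgroup is a two-group, also when the group is not simple. -/
theorem isPGroup_regular {G' : Type u} {Ω' : Type v} [Group G'] [Finite G'] [MulAction G' Ω'] [FaithfulSMul G' Ω']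
    {a' : Ω'} {t' : G'} {Q' : Subgroup G'} (H : RankOne.Hyp G' Ω' a' t' Q') : IsPGroup 2 Q' := by
  haveI := RankOne.invGen_simple H
  have h := (RankOne.struct_all (RankOne.invGen_hyp H)).1
  exact h.of_equiv (Subgroup.subgroupOfEquivOfLe (RankOne.q_le_invGen H))

end Simple

/-- An involution alone in a Sylow subgroup contradicts simplicity, by the Z*-theorem. -/
theorem not_unique_fusion {G : Type u} [Group G] [Finite G] [IsSimpleGroup G] (hnc : ∃ x y : G, x * y ≠ y * x)
    (P : Sylow 2 G) {z : G} (hz : z ∈ P) (h2 : orderOf z = 2)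
    (hu : ∀ g : G, g * z * g⁻¹ ∈ P → g * z * g⁻¹ = z) : False := by
  obtain ⟨N, hN, hodd, hcom⟩ := ZStar.exists_odd_normal (ZStar.isIsolated_of_sylow hz h2 hu)
  rcases hN.eq_bot_or_eq_top with rfl | rfl
  · have hzc : z ∈ Subgroup.center G := Subgroup.mem_center_iff.2 fun g => by
      have h := Subgroup.mem_bot.1 (hcom g)
      rw [mul_inv_eq_one, mul_inv_eq_iff_eq_mul] at h
      exact h.symm
    rcases (inferInstance : (Subgroup.center G).Normal).eq_bot_or_eq_top with h | h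
    · rw [h, Subgroup.mem_bot] at hzc
      rw [hzc, orderOf_one] at h2
      exact absurd h2 (by norm_num)
    · obtain ⟨x, y, hxy⟩ := hnc
      exact hxy (Subgroup.mem_center_iff.1 (h ▸ Subgroup.mem_top y) x)
  · rw [Subgroup.card_top] at hodd
    exact Nat.not_even_iff_odd.2 hodd (even_iff_two_dvd.2 (h2 ▸ orderOf_dvd_natCard z))

/-- A non-abelian simple group of even order has two distinct commuting involutions. -/
theorem exists_commuting {G : Type u} [Group G] [Finite G] [IsSimpleGroup G] (hnc : ∃ x y : G, x * y ≠ y * x)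
    (heven : Even (Nat.card G)) :
    ∃ x y : G, x ≠ 1 ∧ y ≠ 1 ∧ x ≠ y ∧ x * x = 1 ∧ y * y = 1 ∧ x * y = y * x := by
  haveI : Fact (Nat.Prime 2) := ⟨Nat.prime_two⟩
  obtain ⟨P⟩ := (inferInstance : Nonempty (Sylow 2 G))
  haveI : Nontrivial (P : Subgroup G) := by
    rw [← Finite.one_lt_card_iff_nontrivial]
    obtain ⟨k, hk⟩ := IsPGroup.iff_card.1 P.isPGroup'
    rw [hk]
    refine Nat.one_lt_two_pow ?_
    rintro rfl
    exact P.not_dvd_index (by rw [← mul_one (P : Subgroup G).index, ← pow_zero 2, ← hk,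
      (P : Subgroup G).index_mul_card]; exact heven.two_dvd)
  obtain ⟨c, hc⟩ : ∃ c : Subgroup.center (P : Subgroup G), orderOf c = 2 := by
    haveI := P.isPGroup'.center_nontrivial
    refine exists_prime_orderOf_dvd_card' 2 ?_
    obtain ⟨k, hk⟩ := IsPGroup.iff_card.1 (P.isPGroup'.to_subgroup (Subgroup.center _))
    have : 1 < Nat.card (Subgroup.center (P : Subgroup G)) := Finite.one_lt_card
    rw [hk] at this ⊢
    exact dvd_pow_self 2 (by rintro rfl; simp at this)
  have hz2 : orderOf ((c : (P : Subgroup G)) : G) = 2 := by rw [Subgroup.orderOf_coe, Subgroup.orderOf_coe, hc]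
  by_contra hno
  refine not_unique_fusion hnc P (c : (P : Subgroup G)).2 hz2 fun g hg => ?_
  by_contra hne
  have hgo : orderOf (g * ((c : (P : Subgroup G)) : G) * g⁻¹) = 2 := by
    rw [← MulAut.conj_apply, MulEquiv.orderOf_eq, hz2]
  exact hno ⟨_, _, fun h => by rw [h, orderOf_one] at hgo; exact absurd hgo (by norm_num),
    fun h => by rw [h, orderOf_one] at hz2; exact absurd hz2 (by norm_num), hne,
    by rw [← pow_two]; exact orderOf_dvd_iff_pow_eq_one.1 hgo.dvd,
    by rw [← pow_two]; exact orderOf_dvd_iff_pow_eq_one.1 hz2.dvd,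
    congrArg Subtype.val (Subgroup.mem_center_iff.1 c.2 ⟨_, hg⟩)⟩

end Cfsg.Agent.Transfer.RankOneCor
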