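import Cfsg.Agent.Lib.Transfer.RankOneCor.Odd

/-!
A point's subgroup is regular on the other points: on the points whose subgroup contains a two-point part, the
normaliser induces a rank-one set-up whose regular subgroup is a two-group.
-/

set_option autoImplicit false
set_option linter.unusedSectionVars false
set_option linter.style.haveILetI false

namespace Cfsg.Agent.Transfer.RankOneCor

open MulAction

universe u v

variable {G : Type u} {Ω : Type v} [Group G] [MulAction G Ω] {U : Ω → Subgroup G} [Finite G] [FaithfulSMul G Ω]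
  [IsSimpleGroup G]

theorem odd_card_two_point (h : Cx U) {a b : Ω} (hab : b ≠ a) :
    Odd (Nat.card ↥(stabilizer G a ⊓ stabilizer G b)) := by
  by_contra hev
  haveI : Fact (Nat.Prime 2) := ⟨Nat.prime_two⟩
  obtain ⟨x, hx⟩ := exists_prime_orderOf_dvd_card' (G := ↥(stabilizer G a ⊓ stabilizer G b)) 2
    (Nat.not_odd_iff_even.1 hev).two_dvd
  have h1 := odd_two_point h hab (mem_stabilizer_iff.1 x.2.1) (mem_stabilizer_iff.1 x.2.2)
  rw [Subgroup.orderOf_coe, hx] at h1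
  exact absurd h1 (by decide)

theorem two_trans (h : Cx U) : MulAction.IsMultiplyPretransitive G Ω 2 :=
  is_two_pretransitive_iff.2 fun hab hcd => exists_map_pair h hab hcd

/-- The common part of two point subgroups. -/
theorem inf_map (h : Cx U) (g : G) {a b : Ω} {x : G} (hx : x ∈ U a ⊓ U b) :
    g * x * g⁻¹ ∈ U (g • a) ⊓ U (g • b) :=
  Subgroup.mem_inf.2 ⟨h.conj g a x hx.1, h.conj g b x hx.2⟩

theorem card_inf (h : Cx U) {a b c d : Ω} (hab : a ≠ b) (hcd : c ≠ d) :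
    Nat.card ↥(U c ⊓ U d) ≤ Nat.card ↥(U a ⊓ U b) := by
  obtain ⟨g, rfl, rfl⟩ := exists_map_pair h hcd hab
  exact Nat.card_le_card_of_injective (fun x : ↥(U c ⊓ U d) => (⟨g * x * g⁻¹, inf_map h g x.2⟩ :
    ↥(U (g • c) ⊓ U (g • d)))) fun x y e => Subtype.ext (mul_left_cancel (mul_right_cancel (congrArg Subtype.val e)))

theorem regular (h : Cx U) {a b : Ω} (hab : b ≠ a) : U a ⊓ stabilizer G b = ⊥ := by
  classical
  haveI := finite_omega h
  obtain ⟨S, hS⟩ : ∃ S, S = U a ⊓ U b := ⟨_, rfl⟩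
  have hSle : ∀ {x}, x ∈ U a → x • b = b → x ∈ S := fun {x} hx hxb =>
    hS ▸ Subgroup.mem_inf.2 ⟨hx, s_le h hab ⟨hx, mem_stabilizer_iff.2 hxb⟩⟩
  refine (Subgroup.eq_bot_iff_forall _).2 fun s hs => ?_
  have hsS := hSle hs.1 (mem_stabilizer_iff.1 hs.2)
  by_contra hs1
  have hSU : ∀ {x}, x ∈ S → x ∈ U a ∧ x ∈ U b := fun {x} hx => by rwa [hS, Subgroup.mem_inf] at hx
  let Δ : Type v := {c : Ω // S ≤ U c}
  have hmap : ∀ {g : G} {c d : Ω}, g • a = c → g • b = d → S ≤ U c → S ≤ U d →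
      g ∈ Subgroup.normalizer (S : Set G) := by
    intro g c d hc hd hSc hSd
    have hcd : c ≠ d := fun e0 => hab (smul_left_cancel g (hd.trans (e0.symm.trans hc.symm)))
    have heq : S = U c ⊓ U d := Subgroup.eq_of_le_of_card_ge (le_inf hSc hSd) (hS ▸ card_inf h hab.symm hcd)
    refine Subgroup.mem_normalizer_fintype fun x hx => ?_
    show g * x * g⁻¹ ∈ S
    rw [heq, ← hc, ← hd]
    exact inf_map h g (Subgroup.mem_inf.2 (hSU hx))
  let H : Subgroup G := Subgroup.normalizer (S : Set G)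
  have hΔ : ∀ {g : G}, g ∈ H → ∀ {c : Ω}, S ≤ U c → S ≤ U (g • c) := fun {g} hg {c} hc x hx => by
    have h1 := h.conj g c _ (hc ((Subgroup.mem_normalizer_iff.1 (inv_mem hg) x).1 hx))
    rwa [show g * (g⁻¹ * x * g⁻¹⁻¹) * g⁻¹ = x by group] at h1
  letI : MulAction H Δ :=
    { smul := fun g c => ⟨(g : G) • c.1, hΔ g.2 c.2⟩
      one_smul := fun c => Subtype.ext (one_smul G c.1)
      mul_smul := fun g k c => Subtype.ext (mul_smul (g : G) (k : G) c.1) }
  let ρ : H →* Equiv.Perm Δ := MulAction.toPermHom H Δ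
  let Gb : Subgroup (Equiv.Perm Δ) := ρ.range
  let a' : Δ := ⟨a, fun x hx => (hSU hx).1⟩
  let b' : Δ := ⟨b, fun x hx => (hSU hx).2⟩
  let π : H →* Gb := ρ.rangeRestrict
  have hπ : ∀ (g : H) (c : Δ), (π g • c : Δ).1 = (g : G) • c.1 := fun g c => rfl
  have hπfix : ∀ (g : H) (c : Δ), π g • c = c ↔ (g : G) • c.1 = c.1 := fun g c =>
    ⟨fun e => (hπ g c).symm.trans (congrArg Subtype.val e), fun e => Subtype.ext ((hπ g c).trans e)⟩
  haveI : FaithfulSMul Gb Δ := ⟨fun e => Subtype.ext (Equiv.ext e)⟩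
  obtain ⟨f, t, ht, ht1, hta, htb⟩ := exists_swap h hab.symm
  have htH : t ∈ H := hmap hta htb b'.2 a'.2
  obtain ⟨z, hz, hz1⟩ := exists_a h a
  obtain ⟨z', hz', hz'1, hzz⟩ := exists_a_ne h a hz hz1
  have hAH : ∀ {x}, x ∈ A U a → x ∈ H := fun {x} hx => Subgroup.mem_normalizer_fintype fun y hy => by
    show x * y * x⁻¹ ∈ S
    rwa [a_central h hx (hSU hy).1, mul_inv_cancel_right]
  have hAne : ∀ {x} (hx : x ∈ A U a), x ≠ 1 → π ⟨x, hAH hx⟩ ≠ 1 := fun {x} hx hx1 e0 => hab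
    (a_fix h hx hx1 (by have := (hπfix ⟨x, hAH hx⟩ b').1 (by rw [e0, one_smul]); exact this))
  let Q : Subgroup Gb := ((U a).subgroupOf H).map π
  let T : Gb := π ⟨t, htH⟩
  have hTa : T • a' = b' := Subtype.ext hta
  have hstabU : ∀ {g : G}, g • a = a → ∀ {x}, x ∈ U a → g * x * g⁻¹ ∈ U a := fun {g} hg {x} hx => by
    have := h.conj g a x hx
    rwa [hg] at this
  have hsetup : Cfsg.IsRankOneSetup Gb Δ a' T Q := by
    refine ⟨?_, ?_, fun e0 => hab ?_, fun e0 => hab ?_, ?_, ?_, ?_, ?_, ?_, ?_⟩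
    · rw [is_two_pretransitive_iff]
      intro c c' d d' hc hd
      have aux : ∀ c d : Δ, c ≠ d → ∃ g : Gb, g • a' = c ∧ g • b' = d := fun c d hcd => by
        obtain ⟨g, h1, h2⟩ := exists_map_pair h hab.symm (fun e0 => hcd (Subtype.ext e0) : c.1 ≠ d.1)
        exact ⟨π ⟨g, hmap h1 h2 c.2 d.2⟩, Subtype.ext h1, Subtype.ext h2⟩
      obtain ⟨g, h1, h2⟩ := aux c c' hc
      obtain ⟨k, h3, h4⟩ := aux d d' hd
      exact ⟨k * g⁻¹, by rw [mul_smul, inv_smul_eq_iff.2 h1.symm, h3],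
        by rw [mul_smul, inv_smul_eq_iff.2 h2.symm, h4]⟩
    · rw [← map_mul, show (⟨t, htH⟩ : H) * ⟨t, htH⟩ = 1 from Subtype.ext (a_sq ht), map_one]
    · rw [e0, one_smul] at hTa; exact (congrArg Subtype.val hTa).symm
    · rw [mem_stabilizer_iff, hTa] at e0; exact congrArg Subtype.val e0
    · rintro _ ⟨u, hu, rfl⟩
      exact mem_stabilizer_iff.2 ((hπfix u a').2 (mem_stabilizer_iff.1 (h.le a (Subgroup.mem_subgroupOf.1 hu))))
    · rintro k hk _ ⟨u, hu, rfl⟩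
      obtain ⟨g, rfl⟩ := ρ.rangeRestrict_surjective k
      refine ⟨g * u * g⁻¹, Subgroup.mem_subgroupOf.2 ?_, by rw [map_mul, map_mul, map_inv]⟩
      exact hstabU ((hπfix g a').1 hk) (Subgroup.mem_subgroupOf.1 hu)
    · refine (Subgroup.eq_bot_iff_forall _).2 ?_
      rintro _ ⟨⟨u, hu, rfl⟩, hub⟩
      have hub' : π u • b' = b' := hTa ▸ mem_stabilizer_iff.1 hub
      rw [hπfix] at hub'
      have h1 : (u : G) ∈ S := hSle (Subgroup.mem_subgroupOf.1 hu) hub'
      refine eq_of_smul_eq_smul (α := Δ) fun c => ?_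
      rw [one_smul]
      exact (hπfix u c).2 (mem_stabilizer_iff.1 (h.le c.1 (c.2 h1)))
    · refine le_antisymm (sup_le (fun x hx => ?_) inf_le_left) fun k hk => ?_
      · obtain ⟨u, hu, rfl⟩ := hx
        exact mem_stabilizer_iff.2 ((hπfix u a').2 (mem_stabilizer_iff.1 (h.le a (Subgroup.mem_subgroupOf.1 hu))))
      obtain ⟨g, rfl⟩ := ρ.rangeRestrict_surjective k
      have hga : (g : G) • a = a := (hπfix g a').1 hk
      obtain ⟨u, hu, hub⟩ := h.trans a b ((g : G) • b) hab fun e0 => hab (smul_left_cancel _ (e0.trans hga.symm))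
      have huH : u ∈ H := hmap (mem_stabilizer_iff.1 (h.le a hu)) hub a'.2 (hΔ g.2 b'.2)
      rw [show g = ⟨u, huH⟩ * (⟨u, huH⟩⁻¹ * g) by group, map_mul]
      refine mul_mem (Subgroup.mem_sup_left ⟨_, Subgroup.mem_subgroupOf.2 hu, rfl⟩) (Subgroup.mem_sup_right ⟨?_, ?_⟩)
      · refine mem_stabilizer_iff.2 ((hπfix _ a').2 ?_)
        show (u⁻¹ * (g : G)) • a = a
        rw [mul_smul, hga, inv_smul_eq_iff, mem_stabilizer_iff.1 (h.le a hu)]
      · refine mem_stabilizer_iff.2 ?_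
        rw [hTa, hπfix]
        show (u⁻¹ * (g : G)) • b = b
        rw [mul_smul, inv_smul_eq_iff, hub]
    · have hzQ : π ⟨z, hAH hz⟩ ∈ Q := ⟨_, Subgroup.mem_subgroupOf.2 (p_le a (a_le a hz)), rfl⟩
      have ho : orderOf (⟨_, hzQ⟩ : Q) = 2 := orderOf_eq_prime (Subtype.ext (by
        rw [SubgroupClass.coe_pow, pow_two, ← map_mul,
          show (⟨z, hAH hz⟩ : H) * ⟨z, hAH hz⟩ = 1 from Subtype.ext (a_sq hz), map_one]; rfl))
        fun e0 => hAne hz hz1 (congrArg Subtype.val e0)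
      exact even_iff_two_dvd.2 (ho ▸ orderOf_dvd_natCard _)
    · refine (odd_card_two_point h hab).of_dvd_nat ?_
      refine (Subgroup.card_dvd_of_le (K := ((stabilizer G a ⊓ stabilizer G b).subgroupOf H).map π)
        fun k hk => ?_).trans ((Subgroup.card_map_dvd _ _).trans
        (Subgroup.card_comap_dvd_of_injective _ _ H.subtype_injective))
      obtain ⟨g, rfl⟩ := ρ.rangeRestrict_surjective k
      obtain ⟨h1, h2⟩ := Subgroup.mem_inf.1 hk
      rw [mem_stabilizer_iff, hπfix] at h1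
      rw [mem_stabilizer_iff, hTa, hπfix] at h2
      exact ⟨g, Subgroup.mem_subgroupOf.2 ⟨mem_stabilizer_iff.2 h1, mem_stabilizer_iff.2 h2⟩, rfl⟩
  have hz'H := hAH hz'
  have hQ2 : IsPGroup 2 Q := isPGroup_regular (H := ⟨hsetup, π ⟨z, hAH hz⟩, π ⟨z', hz'H⟩, hAne hz hz1,
    hAne hz' hz'1, fun e0 => ?_, ?_, ?_, ?_⟩)
  rotate_left
  · refine hab (a_fix h (mul_mem hz' hz) (fun e1 => hzz ?_) ?_)
    · rw [mul_eq_one_iff_eq_inv.1 e1, inv_of_sq (a_sq hz)]
    · have h1 : π (⟨z', hz'H⟩ * ⟨z, hAH hz⟩) = 1 := by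
        rw [map_mul, ← e0, ← map_mul, show (⟨z, hAH hz⟩ : H) * ⟨z, hAH hz⟩ = 1 from Subtype.ext (a_sq hz), map_one]
      exact (hπfix (⟨z', hz'H⟩ * ⟨z, hAH hz⟩) b').1 (by rw [h1, one_smul])
  · rw [← map_mul, show (⟨z, hAH hz⟩ : H) * ⟨z, hAH hz⟩ = 1 from Subtype.ext (a_sq hz), map_one]
  · rw [← map_mul, show (⟨z', hz'H⟩ : H) * ⟨z', hz'H⟩ = 1 from Subtype.ext (a_sq hz'), map_one]
  · rw [← map_mul, ← map_mul]
    exact congrArg π (Subtype.ext (a_comm hz (a_le a hz')))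
  -- elements of odd order normalising the common part lie in it
  have hnorm : ∀ o ∈ U a, Odd (orderOf o) → o ∈ H → o ∈ S := fun o ho hodd hoH => by
    refine hSle ho ((hπfix ⟨o, hoH⟩ b').1 ?_)
    have hq : π ⟨o, hoH⟩ ∈ Q := ⟨_, Subgroup.mem_subgroupOf.2 ho, rfl⟩
    have h1 : π ⟨o, hoH⟩ = 1 := eq_one_two_odd (isTwo_mem hQ2 hq)
      (hodd.of_dvd_nat ((orderOf_map_dvd π _).trans (by rw [← Subgroup.orderOf_coe])))
    rw [h1, one_smul]
  obtain ⟨T₂, O, hsp, -⟩ := RankOne.exists_split (h.nilp a)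
  have hSO : S ≤ O := fun x hx => by
    obtain ⟨p, hp, o, ho, rfl⟩ := hsp.mul x (hSU hx).1
    have hodd := odd_two_point h hab (mem_stabilizer_iff.1 (h.le a (hSU hx).1))
      (mem_stabilizer_iff.1 (h.le b (hSU hx).2))
    have h1 := pow_orderOf_eq_one (p * o)
    rw [(show Commute p o from hsp.comm p hp o ho).mul_pow] at h1
    have h2 := (hsp.mul_inj (pow_mem hp _) (one_mem T₂) (pow_mem ho _) (one_mem O) (h1.trans (one_mul 1).symm)).1
    rw [eq_one_two_odd (x := p) (isTwo_mem hsp.two hp) (hodd.of_dvd_nat (orderOf_dvd_of_pow_eq_one h2)), one_mul]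
    exact ho
  have hOS : O ≤ S := by
    by_contra hnle
    haveI := h.nilp a
    haveI : Group.IsNilpotent O := Group.nilpotent_of_mulEquiv (Subgroup.subgroupOfEquivOfLe hsp.o_le)
    have hlt : S.subgroupOf O < ⊤ := lt_top_iff_ne_top.2 fun e0 => hnle (Subgroup.subgroupOf_eq_top.1 e0)
    obtain ⟨k, hk, hk'⟩ := SetLike.exists_of_lt (Group.normalizerCondition_of_isNilpotent _ hlt)
    refine hk' (Subgroup.mem_subgroupOf.2 (hnorm k (hsp.o_le k.2)
      (hsp.odd.of_dvd_nat (Subgroup.orderOf_dvd_natCard O k.2)) (Subgroup.mem_normalizer_fintype fun x hx => ?_)))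
    exact Subgroup.mem_subgroupOf.1 ((Subgroup.mem_normalizer_iff.1 hk ⟨x, hSO hx⟩).1 (Subgroup.mem_subgroupOf.2 hx))
  refine hs1 (eq_of_smul_eq_smul (α := Ω) fun c => ?_)
  rw [one_smul]
  rcases eq_or_ne c a with rfl | hc
  · exact mem_stabilizer_iff.1 (h.le c hs.1)
  obtain ⟨u, hu, rfl⟩ := h.trans a b c hab hc
  obtain ⟨p, hp, o, ho, rfl⟩ := hsp.mul u hu
  have hpP : p ∈ P U a := mem_p h (mem_stabilizer_iff.1 (h.le a (hsp.s_le hp))) (isTwo_mem hsp.two hp)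
  rw [mul_smul, mem_stabilizer_iff.1 (h.le b (hSU (hOS ho)).2), smul_smul,
    ← commute_odd h hpP hs.1 (odd_two_point h hab (mem_stabilizer_iff.1 (h.le a hs.1)) (mem_stabilizer_iff.1 hs.2)),
    mul_smul, mem_stabilizer_iff.1 hs.2]

theorem setup (h : Cx U) (a : Ω) : ∃ t : G, Cfsg.IsRankOneSetup G Ω a t (U a) := by
  obtain ⟨b, hab, -⟩ := third h a a
  obtain ⟨f, t, ht, ht1, hta, htb⟩ := exists_swap h hab.symm
  refine ⟨t, two_trans h, a_sq ht, ht1, fun e => hab ?_, h.le a, fun g hg x hx => ?_, ?_, ?_, ?_, ?_⟩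
  · rw [mem_stabilizer_iff, hta] at e; exact e
  · have := h.conj g a x hx
    rwa [mem_stabilizer_iff.1 hg] at this
  · rw [hta]; exact regular h hab
  · rw [hta]
    refine le_antisymm (sup_le (h.le a) inf_le_left) fun g hg => ?_
    obtain ⟨u, hu, hub⟩ := h.trans a b (g • b) hab fun e => hab
      (smul_left_cancel g (e.trans (mem_stabilizer_iff.1 hg).symm))
    rw [show g = u * (u⁻¹ * g) by group]
    exact mul_mem (Subgroup.mem_sup_left hu) (Subgroup.mem_sup_right (Subgroup.mem_inf.2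
      ⟨mul_mem (inv_mem (h.le a hu)) hg, mem_stabilizer_iff.2 (by rw [mul_smul, inv_smul_eq_iff, hub])⟩))
  · obtain ⟨z, hz, hz1⟩ := exists_a h a
    have ho : orderOf (⟨z, p_le a (a_le a hz)⟩ : U a) = 2 :=
      orderOf_eq_prime (Subtype.ext (by rw [SubgroupClass.coe_pow, pow_two]; exact a_sq hz))
        fun e => hz1 (congrArg Subtype.val e)
    exact even_iff_two_dvd.2 (ho ▸ orderOf_dvd_natCard _)
  · rw [hta]; exact odd_card_two_point h hab

theorem classify (hC : Classif.{u, v}) (h : Cx U) :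
    (∃ (F : Type) (_ : Field F) (_ : Fintype F) (n : ℕ), 2 ≤ n ∧ Fintype.card F = 2 ^ n ∧
        Nonempty (G ≃* Matrix.ProjectiveSpecialLinearGroup (Fin 2) F)) ∨
      Cfsg.IsSuzuki G ∨
      (∃ (F : Type) (_ : Field F) (_ : Fintype F) (n : ℕ), 2 ≤ n ∧ Fintype.card F = (2 ^ n) ^ 2 ∧
        Nonempty (G ≃* Cfsg.PSU 3 F (2 ^ n))) := by
  haveI := finite_omega h
  haveI : Nonempty Ω := (Nat.card_pos_iff.1 (show 0 < Nat.card Ω by have := h.three; omega)).1
  obtain ⟨t, ht⟩ := setup h (Classical.arbitrary Ω)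
  obtain ⟨z, hz, hz1⟩ := exists_a h (Classical.arbitrary Ω)
  obtain ⟨z', hz', hz'1, hzz⟩ := exists_a_ne h _ hz hz1
  exact simple_form hC ht ⟨z, z', hz1, hz'1, hzz.symm, a_sq hz, a_sq hz', a_comm hz (a_le _ hz')⟩

end Cfsg.Agent.Transfer.RankOneCor
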