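import Cfsg.Prelude.Def_LieExceptional
import Cfsg.Agent.Lib.Lie.BNTits
import Cfsg.Agent.Lib.Transfer.RankOneCor.Regular

/-!
A simple group with a strongly split BN-pair of rank one, of odd degree and with a two-point part of odd order.
-/

set_option autoImplicit false
set_option linter.unusedSectionVars false
set_option linter.style.haveILetI false

namespace Cfsg.Agent.Transfer.RankOneCor

open MulAction

universe u

variable {G : Type u} [Group G] (P : Cfsg.BNPair G)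

/-- In rank one a single element represents the other double coset. -/
theorem exists_s (hrank : P.rank = 1) :
    ∃ s : G, s ∈ P.N ∧ s ∉ P.B ∧ ∀ g : G, g ∉ P.B → ∃ b ∈ P.B, ∃ c ∈ P.B, g = b * s * c := by
  obtain ⟨hsub, ⟨s⟩⟩ := Nat.card_eq_one_iff_unique.1 hrank
  have hword : ∀ (l : List P.S), Lie.wprod P l = 1 ∨ Lie.wprod P l = Lie.refl P s := by
    intro l
    induction l with
    | nil => exact Or.inl rfl
    | cons r l ih =>
      rw [Lie.wprod_cons, Subsingleton.elim r s]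
      rcases ih with e | e <;> rw [e]
      · right; rw [mul_one]
      · left; exact Lie.refl_mul_self P s
  refine ⟨s, P.subset s.2, Lie.s_notMem_B P s, fun g hg => ?_⟩
  obtain ⟨w, hw⟩ := Lie.exists_cell P g
  obtain ⟨l, rfl⟩ := Lie.exists_word P w
  rcases hword l with e | e <;> rw [e] at hw
  · rw [Lie.cell_one] at hw; exact absurd hw hg
  · exact (Lie.mem_cell_proj P).1 hw

variable {P}

theorem s0349_of [Finite G] [IsSimpleGroup G] (hC : Classif.{u, u}) (hrank : P.rank = 1) {U : Subgroup G}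
    (hUB : U ≤ P.B) (hUn : (U.subgroupOf P.B).Normal) (hUnil : Group.IsNilpotent U)
    (hsplit : U ⊔ (P.B ⊓ P.N) = P.B) (hind : Odd P.B.index) (hH : Odd (Nat.card ↥(P.B ⊓ P.N))) :
    (∃ (F : Type) (_ : Field F) (_ : Fintype F), (∃ n : ℕ, Fintype.card F = 2 ^ n) ∧
        Nonempty (G ≃* Matrix.ProjectiveSpecialLinearGroup (Fin 2) F)) ∨
      Cfsg.IsSuzuki G ∨
      (∃ (F : Type) (_ : Field F) (_ : Fintype F) (n : ℕ), 2 ≤ n ∧ Fintype.card F = (2 ^ n) ^ 2 ∧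
        Nonempty (G ≃* Cfsg.PSU 3 F (2 ^ n))) := by
  obtain ⟨s, hsN, hsB, hcell⟩ := exists_s P hrank
  have hUconj : ∀ b ∈ P.B, ∀ x ∈ U, b * x * b⁻¹ ∈ U := fun b hb x hx =>
    Subgroup.mem_subgroupOf.1 (hUn.conj_mem ⟨x, hUB hx⟩ (Subgroup.mem_subgroupOf.2 hx) ⟨b, hb⟩)
  have hmul : ∀ b ∈ P.B, ∃ u ∈ U, ∃ n ∈ P.B ⊓ P.N, u * n = b := fun b hb => by
    rw [← hsplit, ← SetLike.mem_coe, Subgroup.coe_mul_of_right_le_normalizer_left _ _
      (show P.B ⊓ P.N ≤ Subgroup.normalizer (U : Set G) from fun x hx =>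
        Subgroup.mem_normalizer_fintype (hUconj x (Subgroup.mem_inf.1 hx).1))] at hb
    exact hb
  have hstb : ∀ {g h : G}, h • (g : G ⧸ P.B) = (g : G ⧸ P.B) ↔ g⁻¹ * h * g ∈ P.B := fun {g h} => by
    rw [MulAction.Quotient.smul_mk, eq_comm, QuotientGroup.eq, smul_eq_mul, mul_assoc]
  let V : G ⧸ P.B → Subgroup G := fun c => U.map (MulAut.conj c.out).toMonoidHom
  have hV : ∀ {g x : G}, x ∈ V (g : G ⧸ P.B) ↔ g⁻¹ * x * g ∈ U := fun {g x} => by
    obtain ⟨b, hb⟩ := QuotientGroup.mk_out_eq_mul P.B g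
    constructor
    · rintro ⟨y, hy, rfl⟩
      have h1 := hUconj b b.2 y hy
      rw [show g⁻¹ * (MulAut.conj (g : G ⧸ P.B).out).toMonoidHom y * g = (b : G) * y * (b : G)⁻¹ by
        rw [MulEquiv.coe_toMonoidHom, MulAut.conj_apply, hb]; group]
      exact h1
    · intro hx
      refine ⟨_, hUconj _ (inv_mem b.2) _ hx, ?_⟩
      rw [MulEquiv.coe_toMonoidHom, MulAut.conj_apply, hb]
      group
  have hbase : ∀ g₁ g₂ : G, g₁ ∉ P.B → g₂ ∉ P.B → ∃ u ∈ U, u • (g₁ : G ⧸ P.B) = (g₂ : G ⧸ P.B) := by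
    have hs : ∀ g : G, g ∉ P.B → ∃ u ∈ U, u • (s : G ⧸ P.B) = (g : G ⧸ P.B) := fun g hg => by
      obtain ⟨b, hb, c, hc, rfl⟩ := hcell g hg
      obtain ⟨u, hu, n, hn, rfl⟩ := hmul b hb
      refine ⟨u, hu, ?_⟩
      rw [MulAction.Quotient.smul_mk, smul_eq_mul, QuotientGroup.eq,
        show (u * s)⁻¹ * (u * n * s * c) = s⁻¹ * n * s⁻¹⁻¹ * c by group]
      exact mul_mem (P.conj_mem _ (inv_mem hsN) _ hn) hc
    intro g₁ g₂ h₁ h₂
    obtain ⟨u₁, hu₁, e₁⟩ := hs g₁ h₁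
    obtain ⟨u₂, hu₂, e₂⟩ := hs g₂ h₂
    exact ⟨u₂ * u₁⁻¹, mul_mem hu₂ (inv_mem hu₁), by rw [mul_smul, ← e₁, inv_smul_smul, e₂]⟩
  have hne : P.B ≠ ⊤ := fun e => hsB (e ▸ Subgroup.mem_top s)
  haveI : FaithfulSMul G (G ⧸ P.B) := by
    have hcore : P.B.normalCore = ⊥ := by
      rcases (inferInstance : P.B.normalCore.Normal).eq_bot_or_eq_top with h | h
      · exact h
      · exact absurd (top_unique (h ▸ P.B.normalCore_le)) hne
    refine ⟨fun {g₁ g₂} h => ?_⟩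
    have h1 : g₂⁻¹ * g₁ ∈ P.B.normalCore := fun b => by
      have h4 := (hstb (g := b⁻¹) (h := g₂⁻¹ * g₁)).1 (by rw [mul_smul, h ((b⁻¹ : G) : G ⧸ P.B), inv_smul_smul])
      simpa using h4
    rw [hcore, Subgroup.mem_bot, inv_mul_eq_one] at h1
    exact h1.symm
  have hCx : Cx V := by
    refine ⟨fun e x hx => ?_, fun g e x hx => ?_, fun e => ?_, fun e c d hc hd => ?_, ?_, ?_, fun e x hx hx2 => ?_⟩
    · obtain ⟨g, rfl⟩ := QuotientGroup.mk_surjective e
      exact mem_stabilizer_iff.2 (hstb.2 (hUB (hV.1 hx)))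
    · obtain ⟨k, rfl⟩ := QuotientGroup.mk_surjective e
      rw [MulAction.Quotient.smul_mk, smul_eq_mul, hV, show (g * k)⁻¹ * (g * x * g⁻¹) * (g * k) = k⁻¹ * x * k by group]
      exact hV.1 hx
    · exact Group.nilpotent_of_mulEquiv
        (Subgroup.equivMapOfInjective U _ (MulAut.conj (Quotient.out e)).injective)
    · obtain ⟨g, rfl⟩ := QuotientGroup.mk_surjective e
      obtain ⟨c, rfl⟩ := QuotientGroup.mk_surjective c
      obtain ⟨d, rfl⟩ := QuotientGroup.mk_surjective d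
      obtain ⟨u, hu, e0⟩ := hbase (g⁻¹ * c) (g⁻¹ * d) (fun h => hc (QuotientGroup.eq.2 h).symm)
        (fun h => hd (QuotientGroup.eq.2 h).symm)
      refine ⟨g * u * g⁻¹, hV.2 (by rwa [show g⁻¹ * (g * u * g⁻¹) * g = u by group]), ?_⟩
      have := congrArg (g • ·) e0
      simp only [MulAction.Quotient.smul_mk, smul_eq_mul, mul_inv_cancel_left] at this
      rw [MulAction.Quotient.smul_mk, smul_eq_mul, ← this]
      congr 1
      group
    · rwa [← Subgroup.index_eq_card]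
    · haveI : Nontrivial (G ⧸ P.B) := ⟨⟨(s : G ⧸ P.B), ((1 : G) : G ⧸ P.B), fun h => hsB (by
        rw [QuotientGroup.eq, mul_one] at h
        exact inv_mem_iff.1 h)⟩⟩
      have h1 := Finite.one_lt_card (α := G ⧸ P.B)
      obtain ⟨m, hm⟩ : Odd (Nat.card (G ⧸ P.B)) := by rwa [← Subgroup.index_eq_card]
      omega
    · obtain ⟨g, rfl⟩ := QuotientGroup.mk_surjective e
      have hy : g⁻¹ * x * g⁻¹⁻¹ ∈ P.B := by rw [inv_inv]; exact hstb.1 hx
      obtain ⟨u, hu, n, hn, e0⟩ := hmul _ hy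
      obtain ⟨k, hk⟩ := isTwo_conj hx2 g⁻¹
      haveI := hUn
      rw [hV, show g⁻¹ * x * g = g⁻¹ * x * g⁻¹⁻¹ by rw [inv_inv], ← e0]
      refine mul_mem hu ?_
      let π := QuotientGroup.mk' (U.subgroupOf P.B)
      have hπ : π ⟨_, hy⟩ = π ⟨n, hn.1⟩ := by
        rw [show (⟨_, hy⟩ : P.B) = ⟨u, hUB hu⟩ * ⟨n, hn.1⟩ from Subtype.ext e0.symm, map_mul,
          show π ⟨u, hUB hu⟩ = 1 from (QuotientGroup.eq_one_iff _).2 (Subgroup.mem_subgroupOf.2 hu), one_mul]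
      have h1 : π ⟨n, hn.1⟩ = 1 := eq_one_two_odd ⟨k, by rw [← hπ, ← map_pow,
          show (⟨_, hy⟩ : P.B) ^ 2 ^ k = 1 from Subtype.ext hk, map_one]⟩
        (hH.of_dvd_nat ((orderOf_map_dvd π _).trans (by
          rw [← Subgroup.orderOf_coe]; exact Subgroup.orderOf_dvd_natCard _ hn)))
      exact Subgroup.mem_subgroupOf.1 ((QuotientGroup.eq_one_iff _).1 h1)
  rcases classify hC hCx with ⟨F, iF, iFF, n, -, hq, he⟩ | h | h
  · exact Or.inl ⟨F, iF, iFF, ⟨n, hq⟩, he⟩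
  · exact Or.inr (Or.inl h)
  · exact Or.inr (Or.inr h)

end Cfsg.Agent.Transfer.RankOneCor
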