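import Cfsg.Agent.Lib.Transfer.RankOneCor.Invol

/-!
Counting the fixed points of an involution fixing two points: the size of its class under the two-part of a point
stabiliser and its centraliser there.
-/

set_option autoImplicit false
set_option linter.unusedSectionVars false
set_option linter.style.haveILetI false

namespace Cfsg.Agent.Transfer.RankOneCor

open MulAction

universe u v

/-- A number dividing the sizes of all orbits on an invariant set divides its size. -/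
theorem dvd_card_orbits {G : Type u} {Ω : Type v} [Group G] [MulAction G Ω] [Finite G] [Finite Ω] (H : Subgroup G)
    (S : Ω → Prop) (hS : ∀ h ∈ H, ∀ c, S c → S (h • c)) (m : ℕ)
    (hm : ∀ c, S c → m ∣ (stabilizer G c).relIndex H) : m ∣ Nat.card {c // S c} := by
  classical
  letI : MulAction H {c // S c} :=
    { smul := fun k c => ⟨(k : G) • c.1, hS k k.2 c.1 c.2⟩
      one_smul := fun c => Subtype.ext (one_smul G c.1)
      mul_smul := fun k l c => Subtype.ext (mul_smul (k : G) (l : G) c.1) }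
  haveI := Fintype.ofFinite (orbitRel.Quotient H {c // S c})
  rw [Nat.card_congr (MulAction.selfEquivSigmaOrbitsQuotientStabilizer H {c // S c}), Nat.card_sigma]
  refine Finset.dvd_sum fun w _ => ?_
  have hst : stabilizer H (Quotient.out w) = (stabilizer G ((Quotient.out w) : {c // S c}).1).subgroupOf H := by
    ext k
    rw [Subgroup.mem_subgroupOf, mem_stabilizer_iff, mem_stabilizer_iff]
    exact ⟨fun e => congrArg Subtype.val e, fun e => Subtype.ext e⟩
  have := hm _ (Quotient.out w).2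
  rwa [Subgroup.relIndex, Subgroup.index, ← hst] at this

section Conj

variable {G : Type u} [Group G] [Finite G]

/-- The class of an element under a subgroup. -/
theorem card_class_eq (K : Subgroup G) (x : G) :
    Nat.card {y // ∃ g ∈ K, g * x * g⁻¹ = y} = (Subgroup.centralizer ({x} : Set G)).relIndex K := by
  rw [Subgroup.relIndex, Subgroup.index]
  refine (Nat.card_eq_of_bijective (fun q : ↥K ⧸ (Subgroup.centralizer ({x} : Set G)).subgroupOf K =>
    (⟨(q.out : G) * x * (q.out : G)⁻¹, _, q.out.2, rfl⟩ : {y // ∃ g ∈ K, g * x * g⁻¹ = y})) ⟨?_, ?_⟩).symm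
  · intro p q e
    have e' : (p.out : G) * x * (p.out : G)⁻¹ = (q.out : G) * x * (q.out : G)⁻¹ := congrArg Subtype.val e
    rw [← QuotientGroup.out_eq' p, ← QuotientGroup.out_eq' q, QuotientGroup.eq, Subgroup.mem_subgroupOf,
      Subgroup.mem_centralizer_iff]
    intro z hz
    rw [Set.mem_singleton_iff.1 hz]
    show x * ((p.out : G)⁻¹ * (q.out : G)) = (p.out : G)⁻¹ * (q.out : G) * x
    calc x * ((p.out : G)⁻¹ * (q.out : G))
        = (p.out : G)⁻¹ * ((p.out : G) * x * (p.out : G)⁻¹) * (q.out : G) := by group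
      _ = _ := by rw [e']; group
  · rintro ⟨y, t, ht, rfl⟩
    refine ⟨QuotientGroup.mk ⟨t, ht⟩, Subtype.ext ?_⟩
    obtain ⟨c, hc⟩ := QuotientGroup.mk_out_eq_mul ((Subgroup.centralizer ({x} : Set G)).subgroupOf K) ⟨t, ht⟩
    show ((QuotientGroup.mk ⟨t, ht⟩ : ↥K ⧸ _).out : G) * x * _⁻¹ = t * x * t⁻¹
    rw [hc, Subgroup.coe_mul]
    have h1 : x * ((c : ↥K) : G) = ((c : ↥K) : G) * x :=
      Subgroup.mem_centralizer_iff.1 (Subgroup.mem_subgroupOf.1 c.2) x rfl
    rw [mul_inv_rev, show t * ((c : ↥K) : G) * x * (((c : ↥K) : G)⁻¹ * t⁻¹) =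
      t * (((c : ↥K) : G) * x * ((c : ↥K) : G)⁻¹) * t⁻¹ by group, ← h1, mul_inv_cancel_right]

/-- Lagrange relative to a subgroup. -/
theorem relIndex_card {H K : Subgroup G} (hle : H ≤ K) : H.relIndex K * Nat.card H = Nat.card K := by
  rw [← Subgroup.relIndex_bot_left H, ← Subgroup.relIndex_bot_left K, mul_comm]
  exact Subgroup.relIndex_mul_relIndex _ _ _ bot_le hle

end Conj

variable {G : Type u} {Ω : Type v} [Group G] [MulAction G Ω] {U : Ω → Subgroup G} [Finite G] [FaithfulSMul G Ω]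

theorem card_a (h : Cx U) (e f : Ω) : Nat.card (A U e) = Nat.card (A U f) := by
  obtain ⟨g, rfl⟩ := exists_map h e f
  refine Nat.card_congr
    { toFun := fun x => ⟨g * x * g⁻¹, a_conj h g x.2⟩
      invFun := fun x => ⟨g⁻¹ * x * g, by
        have := a_conj h g⁻¹ x.2
        rwa [inv_inv, inv_smul_smul] at this⟩
      left_inv := fun x => Subtype.ext (by simp [mul_assoc])
      right_inv := fun x => Subtype.ext (by simp [mul_assoc]) }

theorem card_fix_isConj {x y : G} (hc : IsConj x y) :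
    Nat.card {c : Ω // x • c = c} = Nat.card {c : Ω // y • c = c} := by
  obtain ⟨g, rfl⟩ := isConj_iff.1 hc
  refine Nat.card_congr (Equiv.subtypeEquiv (MulAction.toPerm g) fun c => ?_)
  show x • c = c ↔ (g * x * g⁻¹) • (g • c) = g • c
  rw [mul_smul, inv_smul_smul, mul_smul, smul_left_cancel_iff]

theorem card_fix_succ [Finite Ω] {x : G} {e : Ω} (he : x • e = e) :
    Nat.card {c : Ω // x • c = c} = Nat.card {c : Ω // x • c = c ∧ c ≠ e} + 1 := by
  classical
  haveI := Fintype.ofFinite Ω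
  simp only [Nat.card_eq_fintype_card, Fintype.card_subtype]
  rw [show (Finset.univ.filter fun c => x • c = c) = insert e (Finset.univ.filter fun c => x • c = c ∧ c ≠ e) by
    ext c
    simp only [Finset.mem_filter, Finset.mem_univ, true_and, Finset.mem_insert]
    refine ⟨fun hc => (eq_or_ne c e).imp_right fun hne => ⟨hc, hne⟩, ?_⟩
    rintro (rfl | ⟨hc, -⟩)
    · exact he
    · exact hc]
  exact Finset.card_insert_of_notMem (by simp)

variable [IsSimpleGroup G]

/-- The degree in terms of the fixed points of an involution fixing two points. -/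
theorem degree_eq (h : Cx U) {x : G} (hx : IsL Ω x) {e₀ : Ω} (he₀ : x • e₀ = e₀) {f r : ℕ}
    (hf : Nat.card {c : Ω // x • c = c ∧ c ≠ e₀} = f) (hr : Nat.card (A U e₀) = r + 1) :
    Nat.card Ω = (f + 1) + (f + 1) * (r * f) := by
  classical
  haveI := finite_omega h
  haveI := Fintype.ofFinite Ω
  haveI := Fintype.ofFinite G
  have hF : Nat.card {c : Ω // x • c = c} = f + 1 := by rw [card_fix_succ he₀, hf]
  have hsplit : Nat.card Ω = Nat.card {c : Ω // x • c = c} + Nat.card {c : Ω // x • c ≠ c} := by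
    rw [← Nat.card_sum]
    exact (Nat.card_congr (Equiv.sumCompl fun c : Ω => x • c = c)).symm
  rw [hsplit, hF]
  congr 1
  let D := Σ e : {e : Ω // x • e = e}, Σ a : {a : G // a ∈ A U e.1 ∧ a ≠ 1}, {c : Ω // (x * a.1) • c = c ∧ c ≠ e.1}
  let m : D → {c : Ω // x • c ≠ c} := fun d => ⟨d.2.2.1, fun hc => d.2.2.2.2 (a_fix h d.2.1.2.1 d.2.1.2.2 (by
    rw [← smul_left_cancel_iff x, smul_smul, d.2.2.2.1, hc]))⟩
  have hm : Function.Bijective m := by
    constructor
    · rintro ⟨⟨e, he⟩, ⟨a, ha, ha1⟩, ⟨c, hc, hce⟩⟩ ⟨⟨e', he'⟩, ⟨a', ha', ha1'⟩, ⟨c', hc', hce'⟩⟩ heq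
      obtain rfl : c = c' := congrArg Subtype.val heq
      have hxc : x • c ≠ c := (m ⟨⟨e, he⟩, ⟨a, ha, ha1⟩, ⟨c, hc, hce⟩⟩).2
      obtain ⟨rfl, rfl⟩ := decomp_unique h hx.2.1 ha ha1 ha' ha1' he he' hxc hc hc'
      rfl
    · rintro ⟨c, hc⟩
      obtain ⟨u, hu, hu1⟩ := exists_a h c
      obtain ⟨e, a, ha, ha1, he, hac, -⟩ := decomp h (hx.na h) hc hu hu1
      exact ⟨⟨⟨e, he⟩, ⟨a, ha, ha1⟩, ⟨c, hac, fun e0 => hc (e0 ▸ he)⟩⟩, rfl⟩
  rw [← Nat.card_eq_of_bijective m hm]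
  have hinner : ∀ (e : {e : Ω // x • e = e}) (a : {a : G // a ∈ A U e.1 ∧ a ≠ 1}),
      Nat.card {c : Ω // (x * a.1) • c = c ∧ c ≠ e.1} = f := fun e a => by
    have h1 := card_fix_succ (Ω := Ω) (x := x * a.1) (e := e.1) (na_mul h hx e.2 a.2.1).2
    rw [← card_fix_isConj (isConj_mul h hx e.2 a.2.1), hF] at h1
    omega
  have hmid : ∀ e : {e : Ω // x • e = e}, Nat.card {a : G // a ∈ A U e.1 ∧ a ≠ 1} = r := fun e => by
    have h1 : Nat.card (A U e.1) = r + 1 := by rw [card_a h e.1 e₀, hr]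
    simp only [Nat.card_eq_fintype_card, Fintype.card_subtype] at h1 ⊢
    rw [show (Finset.univ.filter fun a : G => a ∈ A U e.1 ∧ a ≠ 1) = (Finset.univ.filter fun a : G => a ∈ A U e.1).erase 1
      by ext a; simp [and_comm], Finset.card_erase_of_mem (by simp), h1]
    rfl
  rw [Nat.card_sigma]
  simp only [Nat.card_sigma, hinner, Finset.sum_const, Finset.card_univ, ← Nat.card_eq_fintype_card, hmid, smul_eq_mul,
    hF]

theorem class_conj (h : Cx U) {e : Ω} {x : G} {u : G} (hu : u ∈ U e) (hx : x ∈ P U e) {y : G}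
    (hy : ∃ p ∈ P U e, p * x * p⁻¹ = y) : ∃ p ∈ P U e, p * x * p⁻¹ = u * y * u⁻¹ := by
  obtain ⟨p', hp', rfl⟩ := hy
  obtain ⟨p, hp, o, ho, hodd, rfl⟩ := exists_po h hu
  refine ⟨p * p', mul_mem hp hp', ?_⟩
  have hy : p' * x * p'⁻¹ ∈ P U e := mul_mem (mul_mem hp' hx) (inv_mem hp')
  rw [show p * o * (p' * x * p'⁻¹) * (p * o)⁻¹ = p * (o * (p' * x * p'⁻¹) * o⁻¹) * p⁻¹ by group,
    ← commute_odd h hy ho hodd]
  group

/-- The numbers attached to an involution fixing two points. -/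
theorem class_data (h : Cx U) {e b : Ω} (hne : b ≠ e) {x : G} (hx : IsL Ω x) (he : x • e = e) (hb : x • b = b) {f r : ℕ}
    (hf : Nat.card {c : Ω // x • c = c ∧ c ≠ e} = f) (hr : Nat.card (A U e) = r + 1) :
    Nat.card {y // ∃ p ∈ P U e, p * x * p⁻¹ = y} =
        Nat.card {y : {y // ∃ p ∈ P U e, p * x * p⁻¹ = y} // y.1 • b = b} * (1 + r * (f + 1)) ∧
      (r + 1) ∣ f ∧ ¬ 2 * (r + 1) ∣ f ∧ r + 1 < 1 + r * (f + 1) := by
  classical
  haveI := finite_omega h
  haveI := Fintype.ofFinite Ω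
  haveI := Fintype.ofFinite G
  have hxP : x ∈ P U e := mem_p h he (isTwo_of_sq hx.2.1)
  have hdeg := degree_eq h hx he hf hr
  have hf1 : 1 ≤ f := by
    rw [← hf]
    haveI : Nonempty {c : Ω // x • c = c ∧ c ≠ e} := ⟨⟨b, hb, hne⟩⟩
    exact Nat.card_pos
  have hr1 : 1 ≤ r := by
    obtain ⟨z, hz, hz1⟩ := exists_a h e
    haveI : Nontrivial (A U e) := ⟨⟨⟨z, hz⟩, 1, fun e0 => hz1 (congrArg Subtype.val e0)⟩⟩
    have := Finite.one_lt_card (α := A U e)
    omega
  let Y := {y // ∃ p ∈ P U e, p * x * p⁻¹ = y}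
  have hYfix : ∀ y : Y, Nat.card {c : {c : Ω // c ≠ e} // y.1 • c.1 = c.1} = f := fun y => by
    obtain ⟨p, hp, hy⟩ := y.2
    rw [← hf]
    refine Nat.card_congr ((Equiv.subtypeSubtypeEquivSubtypeInter (fun c : Ω => c ≠ e) fun c => y.1 • c = c).trans ?_)
    refine Equiv.subtypeEquiv (MulAction.toPerm p⁻¹) fun c => ?_
    show c ≠ e ∧ y.1 • c = c ↔ x • (p⁻¹ • c) = p⁻¹ • c ∧ p⁻¹ • c ≠ e
    rw [and_comm, ← hy, mul_smul, mul_smul, ← eq_inv_smul_iff (g := p)]
    refine and_congr_right fun _ => ?_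
    rw [not_iff_not, inv_smul_eq_iff, p_fix h hp]
  have hcol : ∀ c : {c : Ω // c ≠ e}, Nat.card {y : Y // y.1 • c.1 = c.1} = Nat.card {y : Y // y.1 • b = b} := by
    intro c
    obtain ⟨u, hu, huc⟩ := h.trans e b c.1 hne c.2
    have hfix : ∀ g : G, (u * g * u⁻¹) • c.1 = c.1 ↔ g • b = b := fun g => by
      rw [← huc, mul_smul, inv_smul_smul, mul_smul, smul_left_cancel_iff]
    refine Nat.card_congr (Equiv.symm ?_)
    exact
      { toFun := fun y => ⟨⟨u * y.1.1 * u⁻¹, class_conj h hu hxP y.1.2⟩, (hfix _).2 y.2⟩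
        invFun := fun y => ⟨⟨u⁻¹ * y.1.1 * u, by
          have := class_conj h (inv_mem hu) hxP y.1.2
          rwa [inv_inv] at this⟩, (hfix _).1 (by
          rw [show u * (u⁻¹ * y.1.1 * u) * u⁻¹ = y.1.1 by group]; exact y.2)⟩
        left_inv := fun y => Subtype.ext (Subtype.ext (by simp [mul_assoc]))
        right_inv := fun y => Subtype.ext (Subtype.ext (by simp [mul_assoc])) }
  have hdouble : Nat.card Y * f = Nat.card {c : Ω // c ≠ e} * Nat.card {y : Y // y.1 • b = b} := by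
    have e1 : Nat.card (Σ y : Y, {c : {c : Ω // c ≠ e} // y.1 • c.1 = c.1}) =
        Nat.card (Σ c : {c : Ω // c ≠ e}, {y : Y // y.1 • c.1 = c.1}) :=
      Nat.card_congr
        { toFun := fun d => ⟨d.2.1, d.1, d.2.2⟩
          invFun := fun d => ⟨d.2.1, d.1, d.2.2⟩
          left_inv := fun _ => rfl
          right_inv := fun _ => rfl }
    rw [Nat.card_sigma, Nat.card_sigma] at e1
    simp only [hYfix, hcol, Finset.sum_const, Finset.card_univ, ← Nat.card_eq_fintype_card, smul_eq_mul] at e1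
    exact e1
  have hne_card : Nat.card {c : Ω // c ≠ e} = f * (1 + r * (f + 1)) := by
    have h1 : Nat.card Ω = Nat.card {c : Ω // c ≠ e} + 1 := by
      rw [← Nat.card_congr (Equiv.sumCompl fun c : Ω => c ≠ e), Nat.card_sum]
      congr 1
      simp
    rw [hdeg] at h1
    ring_nf at h1 ⊢
    omega
  rw [hne_card] at hdouble
  have hC : Nat.card Y = Nat.card {y : Y // y.1 • b = b} * (1 + r * (f + 1)) :=
    Nat.eq_of_mul_eq_mul_right hf1 (by rw [hdouble]; ring)
  obtain ⟨i, hi⟩ : ∃ i, 1 + r * (f + 1) = 2 ^ i := by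
    haveI : Fact (Nat.Prime 2) := ⟨Nat.prime_two⟩
    obtain ⟨k, hk⟩ := IsPGroup.iff_card.1 (isPGroup_p h e)
    have hdvd : (1 + r * (f + 1)) ∣ 2 ^ k := by
      rw [← hk]
      refine dvd_trans (Dvd.intro_left _ hC.symm) ?_
      rw [card_class_eq]
      exact Subgroup.relIndex_dvd_card _ _
    obtain ⟨i, -, hi⟩ := (Nat.dvd_prime_pow Nat.prime_two).1 hdvd
    exact ⟨i, hi⟩
  obtain ⟨k, hk⟩ : ∃ k, r + 1 = 2 ^ k := by
    haveI : Fact (Nat.Prime 2) := ⟨Nat.prime_two⟩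
    obtain ⟨k, hk⟩ := IsPGroup.iff_card.1 ((isPGroup_p h e).to_le (a_le (U := U) e))
    exact ⟨k, hr.symm.trans hk⟩
  have hqf : (r + 1) ∣ f := by
    rw [← hf]
    refine dvd_card_orbits (A U e) (fun c : Ω => x • c = c ∧ c ≠ e) (fun a ha c hc => ⟨?_, fun e0 => hc.2 ?_⟩) (r + 1)
      fun c hc => ?_
    · rw [smul_smul, ← a_comm ha hxP, mul_smul, hc.1]
    · rw [← p_fix h (a_le e ha), smul_left_cancel_iff] at e0
      exact e0
    · have h1 : stabilizer G c ⊓ A U e = ⊥ := eq_bot_iff.2 fun a ha => Subgroup.mem_bot.2 (by_contra fun ha1 =>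
        hc.2 (a_fix h ha.2 ha1 (mem_stabilizer_iff.1 ha.1)))
      rw [← Subgroup.inf_relIndex_right, h1, Subgroup.relIndex_bot_left, hr]
  have hlt : r + 1 < 1 + r * (f + 1) := by
    have h1 : 1 * 1 ≤ r * f := Nat.mul_le_mul hr1 hf1
    rw [mul_add, mul_one]
    omega
  refine ⟨hC, hqf, ?_, hlt⟩
  rintro ⟨m, hm⟩
  have h2T : 2 * (r + 1) ∣ 1 + r * (f + 1) := by
    rw [hi, hk, mul_comm, ← pow_succ]
    refine Nat.pow_dvd_pow 2 ((Nat.pow_lt_pow_iff_right (le_refl 2)).1 ?_)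
    rw [← hi, ← hk]; exact hlt
  have h3 : 2 * (r + 1) ∣ r * f := ⟨r * m, by rw [hm]; ring⟩
  have h4 : 2 * (r + 1) ∣ r + 1 := by
    have h5 := Nat.dvd_sub h2T h3
    rwa [show 1 + r * (f + 1) - r * f = r + 1 by rw [mul_add, mul_one]; omega] at h5
  have := Nat.le_of_dvd (by omega) h4
  omega

/-- An involution commuting with the two-elements fixing its two points: its centraliser and its class. -/
theorem central_data (h : Cx U) {e b : Ω} (hne : b ≠ e) {x : G} (hxX : x ∈ X U e b) (hx1 : x ≠ 1) (hx2 : x * x = 1)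
    (hcen : ∀ y ∈ X U e b, y * x = x * y) :
    (∀ y ∈ P U e, y * x = x * y → ∃ a ∈ A U e, ∃ i ∈ X U e b, y = a * i) ∧
      (∀ p ∈ P U e, (p * x * p⁻¹) • b = b → p * x * p⁻¹ = x) ∧
      Nat.card (A U e) < Nat.card {y // ∃ p ∈ P U e, p * x * p⁻¹ = y} ∧
      Nat.card {y // ∃ p ∈ P U e, p * x * p⁻¹ = y} * (Nat.card (A U e) * Nat.card (X U e b)) = Nat.card (P U e) := by
  classical
  haveI : Fact (Nat.Prime 2) := ⟨Nat.prime_two⟩
  haveI := finite_omega h
  obtain ⟨-, he, hb⟩ := (mem_x h).1 hxX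
  have hx : IsL Ω x := ⟨hx1, hx2, e, b, hne.symm, he, hb⟩
  obtain ⟨f, hf⟩ : ∃ f, Nat.card {c : Ω // x • c = c ∧ c ≠ e} = f := ⟨_, rfl⟩
  obtain ⟨r, hr⟩ : ∃ r, Nat.card (A U e) = r + 1 := ⟨Nat.card (A U e) - 1, by
    have := Nat.card_pos (α := A U e); omega⟩
  obtain ⟨hC, hqf, h2qf, hlt⟩ := class_data h hne hx he hb hf hr
  obtain ⟨C, hCdef⟩ : ∃ C, C = P U e ⊓ Subgroup.centralizer ({x} : Set G) := ⟨_, rfl⟩
  have hmemC : ∀ y, y ∈ C ↔ y ∈ P U e ∧ y * x = x * y := fun y => by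
    rw [hCdef, Subgroup.mem_inf, Subgroup.mem_centralizer_iff]
    exact and_congr_right fun _ => ⟨fun hh => (hh x rfl).symm, fun hh z hz => Set.mem_singleton_iff.1 hz ▸ hh.symm⟩
  have hXC : X U e b ≤ C := fun y hy => (hmemC y).2 ⟨hy.1, hcen y hy⟩
  have hAC : A U e ≤ C := fun a ha => (hmemC a).2 ⟨a_le e ha, a_comm ha hxX.1⟩
  have hCP : C ≤ P U e := fun y hy => ((hmemC y).1 hy).1
  have hC2 : IsPGroup 2 C := (isPGroup_p h e).to_le hCP
  have hcardC : ∀ c : Ω, c ≠ e → ∃ j, (stabilizer G c).relIndex C = 2 ^ j ∧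
      Nat.card C = Nat.card ↥(stabilizer G c ⊓ C) * 2 ^ j := by
    intro c hc
    obtain ⟨k, hk⟩ := IsPGroup.iff_card.1 hC2
    obtain ⟨j, -, hj⟩ := (Nat.dvd_prime_pow Nat.prime_two).1 (hk ▸ Subgroup.relIndex_dvd_card (stabilizer G c) C)
    refine ⟨j, hj, ?_⟩
    rw [← hj, ← Subgroup.inf_relIndex_right, mul_comm]
    exact (relIndex_card inf_le_right).symm
  obtain ⟨j, hj, hjC⟩ := hcardC b hne
  have hXb : stabilizer G b ⊓ C = X U e b := le_antisymm
    (fun y hy => ⟨hCP hy.2, hy.1⟩) (le_inf inf_le_right hXC)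
  rw [hXb] at hjC
  have hjdvd : 2 ^ j ∣ f := by
    rw [← hf]
    refine dvd_card_orbits C (fun c : Ω => x • c = c ∧ c ≠ e) (fun y hy c hc => ⟨?_, fun e0 => hc.2 ?_⟩) (2 ^ j)
      fun c hc => ?_
    · rw [smul_smul, ← ((hmemC y).1 hy).2, mul_smul, hc.1]
    · rw [← p_fix h (hCP hy), smul_left_cancel_iff] at e0
      exact e0
    · obtain ⟨i, hi, hiC⟩ := hcardC c hc.2
      rw [hi]
      have hle : Nat.card ↥(stabilizer G c ⊓ C) ≤ Nat.card (X U e b) := by
        rw [card_x h hne.symm (Ne.symm hc.2)]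
        exact Nat.le_of_dvd Nat.card_pos (Subgroup.card_dvd_of_le fun y hy => ⟨hCP hy.2, hy.1⟩)
      refine Nat.pow_dvd_pow 2 ((Nat.pow_le_pow_iff_right (le_refl 2)).1 ?_)
      refine Nat.le_of_mul_le_mul_left ?_ (Nat.card_pos (α := X U e b))
      rw [← hjC, hiC]
      exact Nat.mul_le_mul_right _ hle
  let m : A U e × X U e b → C := fun p => ⟨p.1 * p.2, mul_mem (hAC p.1.2) (hXC p.2.2)⟩
  have hminj : Function.Injective m := by
    intro p q heq
    have h1 : (q.1 : G)⁻¹ * p.1 = q.2 * (p.2 : G)⁻¹ := by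
      rw [eq_mul_inv_iff_mul_eq, mul_assoc, show (p.1 : G) * p.2 = q.1 * q.2 from congrArg Subtype.val heq,
        inv_mul_cancel_left]
    have h2 : (q.1 : G)⁻¹ * p.1 = 1 := by
      by_contra h3
      have h4 : ((q.1 : G)⁻¹ * p.1) • b = b := by
        rw [h1]; exact mem_stabilizer_iff.1 (mul_mem q.2.2 (inv_mem p.2.2)).2
      exact hne (a_fix h (mul_mem (inv_mem q.1.2) p.1.2) h3 h4)
    rw [h2, eq_comm, mul_inv_eq_one] at h1
    rw [inv_mul_eq_one] at h2
    exact Prod.ext (Subtype.ext h2.symm) (Subtype.ext h1.symm)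
  have hcard_le := Nat.card_le_card_of_injective m hminj
  rw [Nat.card_prod, hr] at hcard_le
  obtain ⟨k, hk⟩ : ∃ k, r + 1 = 2 ^ k := by
    obtain ⟨k, hk⟩ := IsPGroup.iff_card.1 ((isPGroup_p h e).to_le (a_le (U := U) e))
    exact ⟨k, hr.symm.trans hk⟩
  have hjk : 2 ^ j = r + 1 := by
    rw [hjC, mul_comm] at hcard_le
    have hle := Nat.le_of_mul_le_mul_left hcard_le (Nat.card_pos (α := X U e b))
    refine le_antisymm (not_lt.1 fun hlt' => h2qf (dvd_trans ?_ hjdvd)) hle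
    rw [hk] at hlt' ⊢
    rw [mul_comm, ← pow_succ]
    exact Nat.pow_dvd_pow 2 ((Nat.pow_lt_pow_iff_right (le_refl 2)).1 hlt')
  rw [hjk] at hjC
  have hmem : ∀ y ∈ P U e, y * x = x * y → ∃ a ∈ A U e, ∃ i ∈ X U e b, y = a * i := fun y hy hyx => by
    have hb := hminj.bijective_of_nat_card_le (by rw [hjC, Nat.card_prod, hr, mul_comm])
    obtain ⟨p, hp⟩ := hb.2 ⟨y, (hmemC y).2 ⟨hy, hyx⟩⟩
    exact ⟨_, p.1.2, _, p.2.2, (congrArg Subtype.val hp).symm⟩
  obtain ⟨Y, hY⟩ : ∃ Y, Y = Nat.card {y // ∃ p ∈ P U e, p * x * p⁻¹ = y} := ⟨_, rfl⟩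
  have hP : Y * ((r + 1) * Nat.card (X U e b)) = Nat.card (P U e) := by
    have h1 := relIndex_card hCP
    rw [hY, card_class_eq, show (Subgroup.centralizer ({x} : Set G)).relIndex (P U e) = C.relIndex (P U e) by
      rw [← Subgroup.inf_relIndex_right, inf_comm, ← hCdef], mul_comm (r + 1), ← hjC]
    exact h1
  rw [hr, ← hY]
  refine ⟨hmem, ?_, ?_, hP⟩
  · obtain ⟨α, hα⟩ : ∃ α, α = Nat.card {y : {y // ∃ p ∈ P U e, p * x * p⁻¹ = y} // y.1 • b = b} := ⟨_, rfl⟩
    rw [← hα, ← hY] at hC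
    have hα1 : α = 1 := by
      have hαpos : 0 < α := by
        rw [hα]
        haveI : Nonempty {y : {y // ∃ p ∈ P U e, p * x * p⁻¹ = y} // y.1 • b = b} :=
          ⟨⟨⟨x, 1, one_mem _, by simp⟩, hb⟩⟩
        exact Nat.card_pos
      obtain ⟨l, hl⟩ : ∃ l, α = 2 ^ l := by
        obtain ⟨k', hk'⟩ := IsPGroup.iff_card.1 (isPGroup_p h e)
        obtain ⟨l, -, hl⟩ := (Nat.dvd_prime_pow Nat.prime_two).1
          (hk' ▸ hP ▸ dvd_mul_of_dvd_left (Dvd.intro _ hC.symm) _ : α ∣ 2 ^ k')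
        exact ⟨l, hl⟩
      have horb : α * (1 + r * (f + 1)) * (r + 1) ∣ f * (1 + r * (f + 1)) := by
        have h1 : Nat.card {c : Ω // c ≠ e} = f * (1 + r * (f + 1)) := by
          have h2 : Nat.card Ω = Nat.card {c : Ω // c ≠ e} + 1 := by
            rw [← Nat.card_congr (Equiv.sumCompl fun c : Ω => c ≠ e), Nat.card_sum]
            congr 1
            simp
          rw [degree_eq h hx he hf hr] at h2
          ring_nf at h2 ⊢
          omega
        rw [← h1]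
        refine dvd_card_orbits (P U e) (fun c : Ω => c ≠ e) (fun p hp c hc e0 => hc ?_) _ fun c hc => ?_
        · rw [← p_fix h hp, smul_left_cancel_iff] at e0
          exact e0
        · refine dvd_of_eq ((Nat.eq_of_mul_eq_mul_right (Nat.card_pos (α := X U e c)) ?_).symm)
          have h1 := relIndex_card (show X U e c ≤ P U e from inf_le_left)
          rw [← Subgroup.inf_relIndex_right, inf_comm, show P U e ⊓ stabilizer G c = X U e c from rfl, h1, ← hP, hC,
            card_x h hc.symm hne.symm]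
          ring
      have h2 : α * (r + 1) ∣ f := by
        refine Nat.dvd_of_mul_dvd_mul_right (show 0 < 1 + r * (f + 1) by omega) ?_
        rwa [mul_right_comm]
      rcases l with _ | l
      · rw [hl, pow_zero]
      · refine absurd (dvd_trans (mul_dvd_mul_right ?_ _) h2) h2qf
        rw [hl]
        exact dvd_pow_self 2 l.succ_ne_zero
    intro p hp hpb
    rw [hα, Nat.card_eq_one_iff_unique] at hα1
    obtain ⟨hsub, -⟩ := hα1
    exact congrArg (fun y => y.1.1) (hsub.elim ⟨⟨_, p, hp, rfl⟩, hpb⟩ ⟨⟨x, 1, one_mem _, by simp⟩, hb⟩)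
  · have hYpos : 0 < Nat.card {y : {y // ∃ p ∈ P U e, p * x * p⁻¹ = y} // y.1 • b = b} := by
      haveI : Nonempty {y : {y // ∃ p ∈ P U e, p * x * p⁻¹ = y} // y.1 • b = b} :=
        ⟨⟨⟨x, 1, one_mem _, by simp⟩, hb⟩⟩
      exact Nat.card_pos
    rw [hY, hC]
    exact lt_of_lt_of_le hlt (Nat.le_mul_of_pos_left _ hYpos)

end Cfsg.Agent.Transfer.RankOneCor
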