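import Mathlib

/-!
An involution of a two-group whose centraliser is the product with an elementary abelian group, permuted transitively
by automorphisms of odd order fixing the involution, lies outside the Frattini subgroup.
-/

set_option autoImplicit false
set_option linter.unusedSectionVars false
set_option linter.style.haveILetI false

namespace Cfsg.Agent.Transfer.RankOneCor

universe u v

variable {D : Type v} [Group D] [Finite D]

theorem not_mem_frattini_of_index_two {Q : Type u} [Group Q] {x : Q} {Z : Subgroup Q} (hx : x ∉ Z)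
    (hall : ∀ y : Q, y ∈ Z ∨ y * x ∈ Z) : x ∉ frattini Q := by
  have hidx : Z.index = 2 := Subgroup.index_eq_two_iff.2 ⟨x, fun y => by
    rcases hall y with h | h
    · exact Or.inr ⟨h, fun h' => hx ((mul_mem_cancel_left h).1 h')⟩
    · exact Or.inl ⟨h, fun h' => hx ((mul_mem_cancel_left h').1 h)⟩⟩
  have hco : IsCoatom Z := by
    refine ⟨fun h => hx (h ▸ Subgroup.mem_top x), fun K hK => ?_⟩
    have h1 := Subgroup.relIndex_mul_index hK.le
    rw [hidx] at h1
    have h2 : K.index ∣ 2 := Dvd.intro_left _ h1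
    rcases (Nat.dvd_prime Nat.prime_two).1 h2 with h3 | h3
    · exact Subgroup.index_eq_one.1 h3
    · rw [h3] at h1
      exact absurd (Subgroup.relIndex_eq_one.1 (by omega)) hK.not_ge
  exact fun h => hx (frattini_le_coatom hco h)

theorem not_mem_frattini_aux (hD : Odd (Nat.card D)) (n : ℕ) :
    ∀ (Q : Type u) [Group Q] [Finite Q] (ρ : D →* MulAut Q) (x : Q) (Z : Subgroup Q), Nat.card Q ≤ n →
      IsPGroup 2 Q → x * x = 1 → x ≠ 1 → (∀ d, ρ d x = x) → x ∉ Z → (∀ z ∈ Z, z * z = 1) →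
      (∀ z ∈ Z, z * x = x * z) → (∀ y, y * x = x * y → y ∈ Z ∨ y * x ∈ Z) → (∀ d, ∀ z ∈ Z, ρ d z ∈ Z) →
      (∀ z ∈ Z, ∀ z' ∈ Z, z ≠ 1 → z' ≠ 1 → ∃ d, ρ d z = z') → (∃ z ∈ Z, ∃ z' ∈ Z, z ≠ 1 ∧ z' ≠ 1 ∧ z ≠ z') →
      x ∉ frattini Q := by
  induction n with
  | zero =>
    intro Q _ _ ρ x Z hn
    have := Nat.card_pos (α := Q)
    omega
  | succ n ih =>
    intro Q _ _ ρ x Z hn hQ hxx hx1 hρx hxZ hsq hzx hcent hinv htr htwo
    classical
    haveI : Fact (Nat.Prime 2) := ⟨Nat.prime_two⟩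
    by_cases hxc : ∀ y, y * x = x * y
    · exact not_mem_frattini_of_index_two hxZ fun y => hcent y (hxc y)
    obtain ⟨y₀, hy₀⟩ := not_forall.1 hxc
    haveI : Nontrivial Q := ⟨⟨x, 1, hx1⟩⟩
    haveI := hQ.center_nontrivial
    have hZc : Z ≤ Subgroup.center Q := by
      have hchar : ∀ d, ∀ c ∈ Subgroup.center Q, ρ d c ∈ Subgroup.center Q := fun d c hc =>
        Subgroup.mem_center_iff.2 fun g => by
          have h1 := congrArg (ρ d) (Subgroup.mem_center_iff.1 hc ((ρ d).symm g))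
          rwa [map_mul, map_mul, MulEquiv.apply_symm_apply] at h1
      obtain ⟨z, hzZ, hz1, hzc⟩ : ∃ z ∈ Z, z ≠ 1 ∧ z ∈ Subgroup.center Q := by
        obtain ⟨c, hc, hc1⟩ := (Subgroup.bot_or_exists_ne_one (Subgroup.center Q)).resolve_left
          ((Subgroup.nontrivial_iff_ne_bot _).1 inferInstance)
        rcases hcent c (Subgroup.mem_center_iff.1 hc x).symm with h | h
        · exact ⟨c, h, hc1, hc⟩
        · rcases eq_or_ne (c * x) 1 with h1 | h1
          · have : c = x := by rw [mul_eq_one_iff_eq_inv.1 h1, inv_eq_of_mul_eq_one_right hxx]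
            exact absurd (fun y => Subgroup.mem_center_iff.1 (this ▸ hc) y) hxc
          obtain ⟨a, ha, b, hb, ha1, hb1, hab⟩ := htwo
          obtain ⟨z', hz', hz'1, hne⟩ : ∃ z' ∈ Z, z' ≠ 1 ∧ z' ≠ c * x := by
            rcases eq_or_ne a (c * x) with h2 | h2
            · exact ⟨b, hb, hb1, fun h3 => hab (h2.trans h3.symm)⟩
            · exact ⟨a, ha, ha1, h2⟩
          obtain ⟨d, hd⟩ := htr _ h _ hz' h1 hz'1
          refine ⟨z'⁻¹ * (c * x), mul_mem (inv_mem hz') h, fun h2 => hne (inv_mul_eq_one.1 h2), ?_⟩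
          have h2 : ρ d c * x = z' := by rw [← hρx d, ← map_mul, hd]
          rw [← h2, mul_inv_rev, inv_eq_of_mul_eq_one_right hxx, Subgroup.mem_center_iff.1 (inv_mem (hchar d c hc)) x,
            mul_assoc, ← mul_assoc x c x, Subgroup.mem_center_iff.1 hc x, mul_assoc c x x, hxx, mul_one]
          exact mul_mem (inv_mem (hchar d c hc)) hc
      intro z' hz'
      rcases eq_or_ne z' 1 with rfl | h'
      · exact one_mem _
      · obtain ⟨d, rfl⟩ := htr z hzZ z' hz' hz1 h'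
        exact hchar d z hzc
    haveI hZn : Z.Normal := ⟨fun z hz g => by rwa [Subgroup.mem_center_iff.1 (hZc hz) g, mul_inv_cancel_right]⟩
    have hρsymm : ∀ d, ∀ z ∈ Z, (ρ d).symm z ∈ Z := fun d z hz => by
      have := hinv d⁻¹ z hz
      rwa [map_inv] at this
    have hmap : ∀ d, Z ≤ Z.comap (ρ d).toMonoidHom := fun d z hz => hinv d z hz
    let r : D →* MulAut (Q ⧸ Z) :=
      { toFun := fun d => QuotientGroup.congr Z Z (ρ d) (le_antisymm (Subgroup.map_le_iff_le_comap.2 (hmap d))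
          fun z hz => ⟨(ρ d).symm z, hρsymm d z hz, (ρ d).apply_symm_apply z⟩)
        map_one' := MulEquiv.ext fun q => by
          induction q using QuotientGroup.induction_on with
          | H g => simp
        map_mul' := fun a b => MulEquiv.ext fun q => by
          induction q using QuotientGroup.induction_on with
          | H g => simp }
    have hr : ∀ d (g : Q), r d (g : Q ⧸ Z) = ((ρ d g : Q) : Q ⧸ Z) := fun d g => by simp [r]
    obtain ⟨N, hN⟩ : ∃ N, N = Subgroup.centralizer ({(x : Q ⧸ Z)} : Set (Q ⧸ Z)) := ⟨_, rfl⟩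
    have hmemN : ∀ g : Q, (g : Q ⧸ Z) ∈ N ↔ g * x * g⁻¹ * x⁻¹ ∈ Z := fun g => by
      rw [hN, Subgroup.mem_centralizer_iff, ← QuotientGroup.eq_one_iff (N := Z)]
      simp only [Set.mem_singleton_iff, forall_eq, QuotientGroup.mk_mul, QuotientGroup.mk_inv]
      rw [mul_inv_eq_one, mul_inv_eq_iff_eq_mul, eq_comm]
    have hker : ∀ g : Q, g * x * g⁻¹ * x⁻¹ = 1 ↔ g ∈ Z ∨ g * x ∈ Z := fun g => by
      rw [mul_inv_eq_one, mul_inv_eq_iff_eq_mul]
      refine ⟨hcent g, ?_⟩
      rintro (h | h)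
      · exact hzx g h
      · calc g * x = (g * x) * x * x := by rw [mul_assoc _ x x, hxx, mul_one]
          _ = x * (g * x) * x := by rw [hzx _ h]
          _ = x * g := by rw [← mul_assoc, mul_assoc (x * g), hxx, mul_one]
    have hxN : (x : Q ⧸ Z) ∈ N := (hmemN x).2 (by simp)
    have hx1' : (x : Q ⧸ Z) ≠ 1 := fun h => hxZ ((QuotientGroup.eq_one_iff x).1 h)
    have hQ' : IsPGroup 2 (Q ⧸ Z) := hQ.to_quotient Z
    have hxx' : (x : Q ⧸ Z) * x = 1 := by rw [← QuotientGroup.mk_mul, hxx, QuotientGroup.mk_one]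
    by_cases hK : ∀ g : Q, g * x * g⁻¹ * x⁻¹ ∈ Z → g * x * g⁻¹ * x⁻¹ = 1
    · haveI : Nontrivial (Q ⧸ Z) := ⟨⟨_, 1, hx1'⟩⟩
      haveI := hQ'.center_nontrivial
      obtain ⟨c, hc, hc1⟩ := (Subgroup.bot_or_exists_ne_one (Subgroup.center (Q ⧸ Z))).resolve_left
        ((Subgroup.nontrivial_iff_ne_bot _).1 inferInstance)
      induction c using QuotientGroup.induction_on with
      | H g =>
        have hgN : (g : Q ⧸ Z) ∈ N := by
          rw [hN, Subgroup.mem_centralizer_iff]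
          exact fun y _ => Subgroup.mem_center_iff.1 hc y
        rcases (hker g).1 (hK g ((hmemN g).1 hgN)) with h | h
        · exact absurd ((QuotientGroup.eq_one_iff g).2 h) hc1
        · have hgx : (g : Q ⧸ Z) = (x : Q ⧸ Z) := by
            rw [QuotientGroup.eq, ← inv_mem_iff, mul_inv_rev, inv_inv, inv_eq_of_mul_eq_one_right hxx]
            have h2 : g * x * x ∈ Subgroup.centralizer ({x} : Set Q) := by
              refine mul_mem ?_ ?_
              · exact Subgroup.mem_centralizer_iff.2 fun z hz => Set.mem_singleton_iff.1 hz ▸ (hzx _ h).symm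
              · exact Subgroup.mem_centralizer_iff.2 fun z hz => Set.mem_singleton_iff.1 hz ▸ rfl
            rw [mul_assoc, hxx, mul_one, Subgroup.mem_centralizer_iff] at h2
            rw [h2 x rfl]; exact h
          rw [hgx] at hc
          exact not_mem_frattini_of_index_two hxZ fun y => (hker y).1
            (hK y ((hmemN y).1 (by
              rw [hN, Subgroup.mem_centralizer_iff]
              exact fun w hw => Set.mem_singleton_iff.1 hw ▸ (Subgroup.mem_center_iff.1 hc y).symm)))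
    obtain ⟨g₀, hg₀, hg₀1⟩ : ∃ g : Q, g * x * g⁻¹ * x⁻¹ ∈ Z ∧ g * x * g⁻¹ * x⁻¹ ≠ 1 := by
      by_contra! h
      exact hK h
    have hequiv : ∀ d g, ρ d g * x * (ρ d g)⁻¹ * x⁻¹ = ρ d (g * x * g⁻¹ * x⁻¹) := fun d g => by
      rw [map_mul, map_mul, map_mul, map_inv, map_inv, hρx]
    have hκmul : ∀ g h : Q, g * x * g⁻¹ * x⁻¹ ∈ Z → h * x * h⁻¹ * x⁻¹ ∈ Z →
        g * h * x * (g * h)⁻¹ * x⁻¹ = (g * x * g⁻¹ * x⁻¹) * (h * x * h⁻¹ * x⁻¹) := fun g h hg hh => by
      rw [show g * h * x * (g * h)⁻¹ * x⁻¹ = g * (h * x * h⁻¹ * x⁻¹) * g⁻¹ * (g * x * g⁻¹ * x⁻¹) by group,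
        Subgroup.mem_center_iff.1 (hZc hh) g, mul_inv_cancel_right, Subgroup.mem_center_iff.1 (hZc hg)]
    have hNc : ∀ q, q ∈ N ↔ q * (x : Q ⧸ Z) = x * q := fun q => by
      rw [hN, Subgroup.mem_centralizer_iff]
      simp only [Set.mem_singleton_iff, forall_eq]
      exact eq_comm
    have hsqN : ∀ q ∈ N, q * q = 1 := by
      intro q
      induction q using QuotientGroup.induction_on with
      | H g =>
        intro hg
        rw [hmemN] at hg
        rw [← QuotientGroup.mk_mul, QuotientGroup.eq_one_iff]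
        by_contra hgg
        have h1 : g * g * x * (g * g)⁻¹ * x⁻¹ = 1 := by rw [hκmul g g hg hg, hsq _ hg]
        have h2 := ((hker _).1 h1).resolve_left hgg
        have h3 : g * (g * g * x) = g * g * x * g := Subgroup.mem_center_iff.1 (hZc h2) g
        have h4 : g * x = x * g := by
          have h5 : g * g * (g * x) = g * g * (x * g) := by
            rw [show g * g * (g * x) = g * (g * g * x) by simp only [mul_assoc], h3]
            simp only [mul_assoc]
          exact mul_left_cancel h5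
        rcases hcent g h4 with h6 | h6
        · exact hgg (mul_mem h6 h6)
        · refine hgg ?_
          rw [show g * g = (g * x) * (g * x) by
            rw [mul_assoc, ← mul_assoc x g x, ← h4, mul_assoc g x x, hxx, mul_one]]
          exact mul_mem h6 h6
    letI : CommGroup N :=
      { (inferInstance : Group N) with
        mul_comm := fun a b => Subtype.ext (by
          have ha := inv_eq_of_mul_eq_one_right (hsqN a a.2)
          have hb := inv_eq_of_mul_eq_one_right (hsqN b b.2)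
          have hab := inv_eq_of_mul_eq_one_right (hsqN _ (mul_mem a.2 b.2))
          rw [mul_inv_rev, ha, hb] at hab
          exact hab.symm) }
    have hrN : ∀ d, ∀ q ∈ N, r d q ∈ N := by
      intro d q
      induction q using QuotientGroup.induction_on with
      | H g =>
        intro hg
        rw [hr, hmemN, hequiv]
        exact hinv d _ ((hmemN g).1 hg)
    haveI := Fintype.ofFinite D
    let ν : N →* N :=
      { toFun := fun a => ∏ d : D, (⟨r d a, hrN d a a.2⟩ : N)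
        map_one' := Finset.prod_eq_one fun d _ => Subtype.ext (map_one (r d))
        map_mul' := fun a b => by
          rw [← Finset.prod_mul_distrib]
          exact Finset.prod_congr rfl fun d _ => Subtype.ext (map_mul (r d) _ _) }
    have hνd : ∀ d' (a : N), ν ⟨r d' a, hrN d' a a.2⟩ = ν a := fun d' a => by
      refine Fintype.prod_equiv (Equiv.mulRight d') _ _ fun d => Subtype.ext ?_
      show r d (r d' a) = r (d * d') a
      rw [map_mul]; rfl
    have hνfix : ∀ d' (a : N), r d' ((ν a : N) : Q ⧸ Z) = ((ν a : N) : Q ⧸ Z) := fun d' a => by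
      have h1 : ((ν a : N) : Q ⧸ Z) = ((∏ d : D, (⟨r d a, hrN d a a.2⟩ : N) : N) : Q ⧸ Z) := rfl
      let rN : N →* N :=
        { toFun := fun b => ⟨r d' b, hrN d' b b.2⟩
          map_one' := Subtype.ext (map_one (r d'))
          map_mul' := fun b c => Subtype.ext (map_mul (r d') _ _) }
      refine (show ((rN (ν a) : N) : Q ⧸ Z) = _ from congrArg Subtype.val ?_)
      rw [show ν a = ∏ d : D, (⟨r d a, hrN d a a.2⟩ : N) from rfl, map_prod]
      refine Fintype.prod_equiv (Equiv.mulLeft d') _ _ fun d => Subtype.ext ?_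
      show r d' (r d a) = r (d' * d) a
      rw [map_mul]; rfl
    have hνx : ν ⟨x, hxN⟩ = ⟨x, hxN⟩ := by
      show ∏ d : D, (⟨r d (x : Q ⧸ Z), _⟩ : N) = _
      have h1 : ∀ d : D, (⟨r d (x : Q ⧸ Z), hrN d _ hxN⟩ : N) = ⟨x, hxN⟩ := fun d =>
        Subtype.ext (show r d (x : Q ⧸ Z) = (x : Q ⧸ Z) by rw [hr, hρx])
      rw [Finset.prod_congr rfl fun d _ => h1 d, Finset.prod_const, Finset.card_univ, ← Nat.card_eq_fintype_card]
      obtain ⟨k, hk⟩ := hD
      have h2 : (⟨x, hxN⟩ : N) ^ 2 = 1 := by rw [pow_two]; exact Subtype.ext hxx'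
      rw [hk, pow_succ, pow_mul, h2, one_pow, one_mul]
    have hfix2 : ∀ q ∈ N, (∀ d, r d q = q) → q = 1 ∨ q = (x : Q ⧸ Z) := by
      intro q
      induction q using QuotientGroup.induction_on with
      | H g =>
        intro hg hf
        rw [hmemN] at hg
        have hk : g * x * g⁻¹ * x⁻¹ = 1 := by
          by_contra hne
          obtain ⟨a, ha, b, hb, ha1, hb1, hab⟩ := htwo
          obtain ⟨z', hz', hz'1, hne'⟩ : ∃ z' ∈ Z, z' ≠ 1 ∧ z' ≠ g * x * g⁻¹ * x⁻¹ := by
            rcases eq_or_ne a (g * x * g⁻¹ * x⁻¹) with h2 | h2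
            · exact ⟨b, hb, hb1, fun h3 => hab (h2.trans h3.symm)⟩
            · exact ⟨a, ha, ha1, h2⟩
          obtain ⟨d, hd⟩ := htr _ hg _ hz' hne hz'1
          have h1 := hf d
          rw [hr, QuotientGroup.eq] at h1
          refine hne' (hd.symm.trans ?_)
          rw [← hequiv]
          have h2 : g = ρ d g * ((ρ d g)⁻¹ * g) := by group
          have h3 := hker ((ρ d g)⁻¹ * g) |>.2 (Or.inl h1)
          conv_rhs => rw [h2]
          rw [hκmul _ _ (by rw [hequiv]; exact hinv d _ hg) (h3 ▸ one_mem _), h3, mul_one]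
        rcases (hker g).1 hk with h | h
        · exact Or.inl ((QuotientGroup.eq_one_iff g).2 h)
        · refine Or.inr ?_
          rw [← mul_inv_eq_one, ← QuotientGroup.mk_inv, ← QuotientGroup.mk_mul, QuotientGroup.eq_one_iff,
            inv_eq_of_mul_eq_one_right hxx]
          exact h
    obtain ⟨Z', hZ'⟩ : ∃ Z' : Subgroup (Q ⧸ Z), Z' = ν.ker.map N.subtype := ⟨_, rfl⟩
    have hmemZ' : ∀ q, q ∈ Z' ↔ ∃ hq : q ∈ N, ν ⟨q, hq⟩ = 1 := fun q => by
      rw [hZ', Subgroup.mem_map]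
      exact ⟨fun ⟨a, ha, e⟩ => e ▸ ⟨a.2, MonoidHom.mem_ker.1 ha⟩, fun ⟨hq, e⟩ => ⟨⟨q, hq⟩, MonoidHom.mem_ker.2 e, rfl⟩⟩
    have hxZ' : (x : Q ⧸ Z) ∉ Z' := fun h => by
      obtain ⟨_, e⟩ := (hmemZ' _).1 h
      rw [hνx] at e
      exact hx1' (congrArg Subtype.val e)
    have hsplit : ∀ q ∈ N, q ∈ Z' ∨ q * x ∈ Z' := fun q hq => by
      rcases hfix2 _ (ν ⟨q, hq⟩).2 (fun d => hνfix d ⟨q, hq⟩) with h | h
      · exact Or.inl ((hmemZ' q).2 ⟨hq, Subtype.ext h⟩)
      · refine Or.inr ((hmemZ' _).2 ⟨mul_mem hq hxN, ?_⟩)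
        rw [show (⟨q * x, mul_mem hq hxN⟩ : N) = ⟨q, hq⟩ * ⟨x, hxN⟩ from rfl, map_mul, hνx]
        refine Subtype.ext ?_
        rw [Subgroup.coe_mul, h]
        exact hxx'
    have hcard : Nat.card (Q ⧸ Z) ≤ n := by
      obtain ⟨z, hz, -, -, hz1, -⟩ := htwo
      haveI : Nontrivial Z := ⟨⟨⟨z, hz⟩, 1, fun h => hz1 (congrArg Subtype.val h)⟩⟩
      have h1 := Subgroup.card_eq_card_quotient_mul_card_subgroup Z
      have h2 : 1 < Nat.card Z := Finite.one_lt_card
      have h3 : 0 < Nat.card (Q ⧸ Z) := Nat.card_pos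
      nlinarith
    have htr' : ∀ a ∈ Z', ∀ b ∈ Z', a ≠ 1 → b ≠ 1 → ∃ d, r d a = b := by
      intro a ha b hb ha1 hb1
      obtain ⟨haN, hνa⟩ := (hmemZ' a).1 ha
      obtain ⟨hbN, hνb⟩ := (hmemZ' b).1 hb
      induction a using QuotientGroup.induction_on with
      | H g =>
      induction b using QuotientGroup.induction_on with
      | H h =>
        have hne : ∀ k : Q, (k : Q ⧸ Z) ∈ Z' → (k : Q ⧸ Z) ≠ 1 → k * x * k⁻¹ * x⁻¹ ≠ 1 := fun k hk hk1 e => by
          rcases (hker k).1 e with h' | h'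
          · exact hk1 ((QuotientGroup.eq_one_iff k).2 h')
          · refine hxZ' ?_
            have h'' : (k : Q ⧸ Z) * x = 1 := by rw [← QuotientGroup.mk_mul]; exact (QuotientGroup.eq_one_iff _).2 h'
            rw [eq_inv_of_mul_eq_one_right h'']
            exact inv_mem hk
        obtain ⟨d, hd⟩ := htr _ ((hmemN g).1 haN) _ ((hmemN h).1 hbN) (hne g ha ha1) (hne h hb hb1)
        refine ⟨d, ?_⟩
        have hmem : r d (g : Q ⧸ Z) ∈ Z' := (hmemZ' _).2 ⟨hrN d _ haN, (hνd d ⟨_, haN⟩).trans hνa⟩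
        rw [hr] at hmem ⊢
        have h1 : (h⁻¹ * ρ d g) * x * (h⁻¹ * ρ d g)⁻¹ * x⁻¹ = 1 := by
          have hh : h⁻¹ * x * (h⁻¹)⁻¹ * x⁻¹ ∈ Z := (hmemN h⁻¹).1 (by rw [QuotientGroup.mk_inv]; exact inv_mem hbN)
          rw [hκmul _ _ hh (by rw [hequiv]; exact hinv d _ ((hmemN g).1 haN)), hequiv, hd,
            ← hκmul _ _ hh ((hmemN h).1 hbN), inv_mul_cancel]
          simp
        rcases (hker _).1 h1 with h2 | h2
        · exact ((QuotientGroup.eq).2 h2).symm
        · refine absurd ?_ hxZ'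
          have h3 : ((h : Q ⧸ Z))⁻¹ * (ρ d g : Q ⧸ Z) * x = 1 := by
            rw [← QuotientGroup.mk_inv, ← QuotientGroup.mk_mul, ← QuotientGroup.mk_mul]
            exact (QuotientGroup.eq_one_iff _).2 h2
          rw [eq_inv_of_mul_eq_one_right h3]
          exact inv_mem (mul_mem (inv_mem hb) hmem)
    obtain ⟨a, ha, b, hb, ha1, hb1, hab⟩ := htwo
    have hlift : ∀ z ∈ Z, z ≠ 1 → ∃ g : Q, (g : Q ⧸ Z) ∈ Z' ∧ g * x * g⁻¹ * x⁻¹ = z := by
      intro z hz hz1
      obtain ⟨d, hd⟩ := htr _ hg₀ z hz hg₀1 hz1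
      have h1 : ρ d g₀ * x * (ρ d g₀)⁻¹ * x⁻¹ = z := by rw [hequiv, hd]
      rcases hsplit (ρ d g₀ : Q ⧸ Z) ((hmemN _).2 (h1 ▸ hz)) with h2 | h2
      · exact ⟨_, h2, h1⟩
      · refine ⟨ρ d g₀ * x, h2, ?_⟩
        rw [hκmul _ _ (h1 ▸ hz) (by simp), h1]
        simp
    obtain ⟨ga, hga, hka⟩ := hlift a ha ha1
    obtain ⟨gb, hgb, hkb⟩ := hlift b hb hb1
    have hne1 : ∀ k : Q, ∀ z, k * x * k⁻¹ * x⁻¹ = z → z ≠ 1 → (k : Q ⧸ Z) ≠ 1 := fun k z e hz1 h =>
      hz1 (e.symm.trans ((hker k).2 (Or.inl ((QuotientGroup.eq_one_iff k).1 h))))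
    have hmain := ih (Q ⧸ Z) r (x : Q ⧸ Z) Z' hcard hQ' hxx' hx1' (fun d => by rw [hr, hρx]) hxZ'
      (fun q hq => hsqN q ((hmemZ' q).1 hq).1)
      (fun q hq => (hNc q).1 ((hmemZ' q).1 hq).1)
      (fun q hq => hsplit q ((hNc q).2 hq))
      (fun d q hq => by
        obtain ⟨hqN, e⟩ := (hmemZ' q).1 hq
        exact (hmemZ' _).2 ⟨hrN d q hqN, (hνd d ⟨q, hqN⟩).trans e⟩)
      htr' ⟨_, hga, _, hgb, hne1 _ _ hka ha1, hne1 _ _ hkb hb1, fun e => hab ?_⟩
    · exact fun h => hmain (frattini_le_comap_frattini_of_surjective (QuotientGroup.mk'_surjective Z) h)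
    · rw [← hka, ← hkb]
      have h1 := (hker (ga⁻¹ * gb)).2 (Or.inl ((QuotientGroup.eq).1 e))
      have hga' := (hmemN ga).1 ((hmemZ' _).1 hga).1
      conv_rhs => rw [show gb = ga * (ga⁻¹ * gb) by group]
      rw [hκmul _ _ hga' (h1 ▸ one_mem _), h1, mul_one]

/-- An involution with centraliser `⟨x⟩ × Z`, automorphisms of odd order fixing `x` being transitive on `Z`, is not in
the Frattini subgroup. -/
theorem not_mem_frattini (hD : Odd (Nat.card D)) {Q : Type u} [Group Q] [Finite Q] (ρ : D →* MulAut Q) {x : Q}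
    {Z : Subgroup Q} (hQ : IsPGroup 2 Q) (hxx : x * x = 1) (hx1 : x ≠ 1) (hρx : ∀ d, ρ d x = x) (hxZ : x ∉ Z)
    (hsq : ∀ z ∈ Z, z * z = 1) (hzx : ∀ z ∈ Z, z * x = x * z)
    (hcent : ∀ y, y * x = x * y → y ∈ Z ∨ y * x ∈ Z) (hinv : ∀ d, ∀ z ∈ Z, ρ d z ∈ Z)
    (htr : ∀ z ∈ Z, ∀ z' ∈ Z, z ≠ 1 → z' ≠ 1 → ∃ d, ρ d z = z')
    (htwo : ∃ z ∈ Z, ∃ z' ∈ Z, z ≠ 1 ∧ z' ≠ 1 ∧ z ≠ z') : x ∉ frattini Q :=
  not_mem_frattini_aux hD (Nat.card Q) Q ρ x Z le_rfl hQ hxx hx1 hρx hxZ hsq hzx hcent hinv htr htwo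

end Cfsg.Agent.Transfer.RankOneCor
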