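import Cfsg.Agent.Lib.Grp.Frattini
import Cfsg.Agent.Lib.Invol.Transfer2
import Cfsg.Agent.Lib.Transfer.RankOneCor.Count
import Cfsg.Agent.Lib.Transfer.RankOneCor.TwoGroup

/-!
The two-point stabilisers have odd order: the elements of two-power order fixing two points would form an elementary
abelian group, then a group of order two, and transfer would give a normal subgroup of index two.
-/

set_option autoImplicit false
set_option linter.unusedSectionVars false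
set_option linter.style.haveILetI false

namespace Cfsg.Agent.Transfer.RankOneCor

open MulAction

universe u v

variable {G : Type u} {Ω : Type v} [Group G] [MulAction G Ω] {U : Ω → Subgroup G} [Finite G] [FaithfulSMul G Ω]
  [IsSimpleGroup G]

theorem noncomm (h : Cx U) : ∃ x y : G, x * y ≠ y * x := by
  by_contra! hcomm
  haveI := finite_omega h
  haveI : Nonempty Ω := (Nat.card_pos_iff.1 (show 0 < Nat.card Ω by have := h.three; omega)).1
  obtain ⟨e, -, -⟩ := third h (Classical.arbitrary Ω) (Classical.arbitrary Ω)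
  obtain ⟨z, hz, hz1⟩ := exists_a h e
  obtain ⟨c, hc, -⟩ := third h e e
  obtain ⟨g, hg⟩ := exists_map h e c
  exact hc (hg.symm.trans (a_cent h hz hz1 (hcomm g z)))

theorem exists_sylow_eq (h : Cx U) (e : Ω) : ∃ S : Sylow 2 G, (S : Subgroup G) = P U e := by
  haveI : Fact (Nat.Prime 2) := ⟨Nat.prime_two⟩
  haveI := finite_omega h
  obtain ⟨S, hS⟩ := (isPGroup_p h e).exists_le_sylow
  have hp : IsPGroup 2 (S : Subgroup G) := S.isPGroup'
  obtain ⟨d, hd⟩ := hp.nonempty_fixed_point_of_prime_not_dvd_card (α := Ω)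
    (Nat.two_dvd_ne_zero.2 (Nat.odd_iff.1 h.odd_omega))
  obtain ⟨z, hz, hz1⟩ := exists_a h e
  obtain rfl : d = e := a_fix h hz hz1 (hd ⟨z, hS (a_le e hz)⟩)
  exact ⟨S, le_antisymm (fun y hy => mem_p h (hd ⟨y, hy⟩) (isTwo_mem S.isPGroup' hy)) hS⟩

theorem a_conj_fix (h : Cx U) {e : Ω} {g x : G} (hg : g • e = e) (hx : x ∈ A U e) : g * x * g⁻¹ ∈ A U e :=
  hg ▸ a_conj h g hx

theorem p_conj_fix (h : Cx U) {e : Ω} {g x : G} (hg : g • e = e) (hx : x ∈ P U e) : g * x * g⁻¹ ∈ P U e :=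
  hg ▸ conj_p h g hx

/-- The elements central modulo the central involutions. -/
def Z₀ (U : Ω → Subgroup G) (e : Ω) : Subgroup G where
  carrier := {g | g ∈ P U e ∧ ∀ p ∈ P U e, g * p * g⁻¹ * p⁻¹ ∈ A U e}
  one_mem' := ⟨one_mem _, fun p _ => by simp⟩
  mul_mem' := fun {g k} hg hk => ⟨mul_mem hg.1 hk.1, fun p hp => by
    rw [show g * k * p * (g * k)⁻¹ * p⁻¹ = g * (k * p * k⁻¹ * p⁻¹) * g⁻¹ * (g * p * g⁻¹ * p⁻¹) by group,
      ← a_comm (hk.2 p hp) hg.1, mul_inv_cancel_right]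
    exact mul_mem (hk.2 p hp) (hg.2 p hp)⟩
  inv_mem' := fun {g} hg => ⟨inv_mem hg.1, fun p hp => by
    rw [show g⁻¹ * p * g⁻¹⁻¹ * p⁻¹ = g⁻¹ * ((g * p * g⁻¹ * p⁻¹)⁻¹ * g) by group,
      a_comm (inv_mem (hg.2 p hp)) hg.1, inv_mul_cancel_left]
    exact inv_mem (hg.2 p hp)⟩

theorem z0_conj (h : Cx U) {e : Ω} {d g : G} (hd : d • e = e) (hg : g ∈ Z₀ U e) : d * g * d⁻¹ ∈ Z₀ U e := by
  refine ⟨p_conj_fix h hd hg.1, fun p hp => ?_⟩
  have hd' : d⁻¹ • e = e := inv_smul_eq_iff.2 hd.symm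
  have h1 := a_conj_fix h hd (hg.2 (d⁻¹ * p * d⁻¹⁻¹) (p_conj_fix h hd' hp))
  rw [show d * g * d⁻¹ * p * (d * g * d⁻¹)⁻¹ * p⁻¹ =
    d * (g * (d⁻¹ * p * d⁻¹⁻¹) * g⁻¹ * (d⁻¹ * p * d⁻¹⁻¹)⁻¹) * d⁻¹ by group]
  exact h1

theorem z0_not_l (h : Cx U) {e : Ω} {y : G} (hy : y ∈ Z₀ U e) : ¬ IsL Ω y := by
  intro hL
  have he := p_fix h hy.1
  obtain ⟨b, hne, hb⟩ := other_fix hL e
  obtain ⟨r, hr⟩ : ∃ r, Nat.card (A U e) = r + 1 := ⟨Nat.card (A U e) - 1, by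
    have := Nat.card_pos (α := A U e); omega⟩
  obtain ⟨hC, -, -, hlt⟩ := class_data h hne hL he hb rfl hr
  have hle : Nat.card {z // ∃ p ∈ P U e, p * y * p⁻¹ = z} ≤ r + 1 := by
    rw [← hr]
    refine Nat.card_le_card_of_injective (fun z : {z // ∃ p ∈ P U e, p * y * p⁻¹ = z} => (⟨y⁻¹ * z.1, ?_⟩ : A U e))
      fun z w e0 => Subtype.ext (mul_left_cancel (congrArg Subtype.val e0))
    obtain ⟨p, hp, hz⟩ := z.2
    rw [← hz]
    have h1 := hy.2 p hp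
    have h2 : y⁻¹ * (p * y * p⁻¹) = y⁻¹ * (y * p * y⁻¹ * p⁻¹)⁻¹ * y := by group
    rw [h2, mul_assoc, a_comm (inv_mem h1) hy.1, inv_mul_cancel_left]
    exact inv_mem h1
  haveI : Nonempty {z : {z // ∃ p ∈ P U e, p * y * p⁻¹ = z} // z.1 • b = b} :=
    ⟨⟨⟨y, 1, one_mem _, by simp⟩, hb⟩⟩
  rw [hC] at hle
  exact absurd (le_trans (Nat.le_mul_of_pos_left _ Nat.card_pos) hle) (not_le.2 hlt)

theorem z0_inf_x (h : Cx U) {e b : Ω} (hne : b ≠ e) {i : G} (hi : i ∈ Z₀ U e) (hib : i • b = b) : i = 1 := by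
  by_contra h1
  haveI : Fact (Nat.Prime 2) := ⟨Nat.prime_two⟩
  obtain ⟨k, hk⟩ := p_two h hi.1
  obtain ⟨l, -, hl⟩ := (Nat.dvd_prime_pow Nat.prime_two).1 (orderOf_dvd_of_pow_eq_one hk)
  rcases l with _ | l
  · exact h1 (orderOf_eq_one_iff.1 (by rw [hl, pow_zero]))
  have hmem : i ^ 2 ^ l ∈ Z₀ U e := pow_mem hi _
  refine z0_not_l h hmem ⟨fun e0 => ?_, ?_, e, b, hne.symm, p_fix h hmem.1, ?_⟩
  · have := Nat.le_of_dvd (by positivity) (orderOf_dvd_of_pow_eq_one e0)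
    rw [hl, pow_succ] at this
    have := Nat.two_pow_pos l
    omega
  · rw [← pow_add, ← two_mul, ← pow_succ', ← hl, pow_orderOf_eq_one]
  · exact mem_stabilizer_iff.1 (pow_mem (mem_stabilizer_iff.2 hib) _)

theorem exists_z0 (h : Cx U) {e b : Ω} (hne : b ≠ e) (hX : X U e b ≠ ⊥) : ∃ g ∈ Z₀ U e, g ∉ A U e := by
  obtain ⟨x, hx, hx1⟩ := (Subgroup.bot_or_exists_ne_one _).resolve_left hX
  haveI : Fact (Nat.Prime 2) := ⟨Nat.prime_two⟩
  haveI hn : ((A U e).subgroupOf (P U e)).Normal := ⟨fun a ha p => Subgroup.mem_subgroupOf.2 (by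
    rw [Subgroup.coe_mul, Subgroup.coe_mul, ← a_comm (Subgroup.mem_subgroupOf.1 ha) p.2, Subgroup.coe_inv,
      mul_inv_cancel_right]
    exact Subgroup.mem_subgroupOf.1 ha)⟩
  haveI : Nontrivial (↥(P U e) ⧸ (A U e).subgroupOf (P U e)) :=
    ⟨⟨((⟨x, hx.1⟩ : P U e) : ↥(P U e) ⧸ (A U e).subgroupOf (P U e)), 1, fun e0 => hne
      (a_fix h (Subgroup.mem_subgroupOf.1 ((QuotientGroup.eq_one_iff _).1 e0)) hx1 (mem_stabilizer_iff.1 hx.2))⟩⟩
  haveI := ((isPGroup_p h e).to_quotient ((A U e).subgroupOf (P U e))).center_nontrivial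
  obtain ⟨c, hc, hc1⟩ := (Subgroup.bot_or_exists_ne_one (Subgroup.center (↥(P U e) ⧸ (A U e).subgroupOf (P U e)))).resolve_left
    ((Subgroup.nontrivial_iff_ne_bot _).1 inferInstance)
  obtain ⟨g, rfl⟩ := QuotientGroup.mk_surjective c
  refine ⟨g, ⟨g.2, fun p hp => ?_⟩, fun hg => hc1 ((QuotientGroup.eq_one_iff _).2 (Subgroup.mem_subgroupOf.2 hg))⟩
  have h1 := Subgroup.mem_center_iff.1 hc ((⟨p, hp⟩ : P U e) : ↥(P U e) ⧸ (A U e).subgroupOf (P U e))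
  have h2 : ((g * ⟨p, hp⟩ * g⁻¹ * (⟨p, hp⟩ : P U e)⁻¹ : P U e) : ↥(P U e) ⧸ (A U e).subgroupOf (P U e)) = 1 := by
    rw [QuotientGroup.mk_mul, QuotientGroup.mk_mul, QuotientGroup.mk_mul, ← h1, QuotientGroup.mk_inv,
      QuotientGroup.mk_inv, mul_inv_cancel_right, mul_inv_cancel]
  simpa using Subgroup.mem_subgroupOf.1 ((QuotientGroup.eq_one_iff _).1 h2)

theorem z0_not_commute (h : Cx U) {e b : Ω} (hne : b ≠ e) {x : G} (hxX : x ∈ X U e b) (hx1 : x ≠ 1)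
    (hx2 : x * x = 1) (hcen : ∀ y ∈ X U e b, y * x = x * y) {g : G} (hg : g ∈ Z₀ U e) (hgA : g ∉ A U e) :
    g * x * g⁻¹ * x⁻¹ ≠ 1 := by
  intro h1
  rw [mul_inv_eq_one, mul_inv_eq_iff_eq_mul] at h1
  obtain ⟨a, ha, i, hi, rfl⟩ := (central_data h hne hxX hx1 hx2 hcen).1 g hg.1 h1
  have hiZ : i ∈ Z₀ U e := by
    have haZ : a ∈ Z₀ U e := ⟨a_le e ha, fun p hp => by
      rw [a_comm ha hp, mul_inv_cancel_right, mul_inv_cancel]; exact one_mem _⟩
    rw [show i = a⁻¹ * (a * i) by group]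
    exact mul_mem (inv_mem haZ) hg
  refine hgA ?_
  rw [z0_inf_x h hne hiZ (mem_stabilizer_iff.1 hi.2), mul_one]
  exact ha

theorem x_elem (h : Cx U) {e b : Ω} (hne : b ≠ e) {i : G} (hi : i ∈ X U e b) : i * i = 1 := by
  by_contra hii
  haveI : Fact (Nat.Prime 2) := ⟨Nat.prime_two⟩
  obtain ⟨g, hg, hgA⟩ := exists_z0 h hne (fun e0 => hii (by
    rw [e0, Subgroup.mem_bot] at hi; rw [hi, mul_one]))
  obtain ⟨N, hN⟩ : ∃ N, N = (Subgroup.centralizer ({g} : Set G)).subgroupOf (X U e b) := ⟨_, rfl⟩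
  have hmem : ∀ j : X U e b, j ∈ N ↔ g * (j : G) * g⁻¹ * (j : G)⁻¹ = 1 := fun j => by
    rw [hN, Subgroup.mem_subgroupOf, Subgroup.mem_centralizer_iff, mul_inv_eq_one, mul_inv_eq_iff_eq_mul]
    simp only [Set.mem_singleton_iff, forall_eq]
  have hκ : ∀ j k : G, j ∈ P U e → k ∈ P U e →
      g * (j * k) * g⁻¹ * (j * k)⁻¹ = (g * j * g⁻¹ * j⁻¹) * (g * k * g⁻¹ * k⁻¹) := fun j k hj hk => by
    rw [show g * (j * k) * g⁻¹ * (j * k)⁻¹ = (g * j * g⁻¹ * j⁻¹) * (j * (g * k * g⁻¹ * k⁻¹) * j⁻¹) by group,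
      ← a_comm (hg.2 k hk) hj, mul_inv_cancel_right]
  have hNn : N.Normal := ⟨fun n hn j => by
    rw [hmem] at hn ⊢
    rw [Subgroup.coe_mul, Subgroup.coe_mul, Subgroup.coe_inv, hκ _ _ (mul_mem j.2.1 n.2.1) (inv_mem j.2.1),
      hκ _ _ j.2.1 n.2.1, hn, mul_one, ← hκ _ _ j.2.1 (inv_mem j.2.1), mul_inv_cancel]
    simp⟩
  have hsqN : (⟨i, hi⟩ * ⟨i, hi⟩ : X U e b) ∈ N := by
    rw [hmem, Subgroup.coe_mul, hκ i i hi.1 hi.1]
    exact a_sq (hg.2 i hi.1)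
  haveI hXp : IsPGroup 2 (X U e b) := (isPGroup_p h e).to_le inf_le_left
  haveI : Group.IsNilpotent (X U e b) := hXp.isNilpotent
  have hNne : N ≠ ⊥ := fun e0 => hii (by
    rw [e0, Subgroup.mem_bot] at hsqN
    exact congrArg Subtype.val hsqN)
  obtain ⟨c, hc, hc1⟩ := (Subgroup.bot_or_exists_ne_one _).resolve_left (Grp.inf_center_ne_bot N hNne)
  obtain ⟨k, hk⟩ := hXp c
  obtain ⟨l, -, hl⟩ := (Nat.dvd_prime_pow Nat.prime_two).1 (orderOf_dvd_of_pow_eq_one hk)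
  rcases l with _ | l
  · exact hc1 (orderOf_eq_one_iff.1 (by rw [hl, pow_zero]))
  have hy : c ^ 2 ^ l ∈ N ⊓ Subgroup.center (X U e b) := pow_mem hc _
  have hy1 : c ^ 2 ^ l ≠ 1 := fun e0 => by
    have := Nat.le_of_dvd (by positivity) (orderOf_dvd_of_pow_eq_one e0)
    rw [hl, pow_succ] at this
    have := Nat.two_pow_pos l
    omega
  have hy2 : c ^ 2 ^ l * c ^ 2 ^ l = 1 := by rw [← pow_add, ← two_mul, ← pow_succ', ← hl, pow_orderOf_eq_one]
  have h1 := (hmem _).1 hy.1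
  exact z0_not_commute h hne (c ^ 2 ^ l).2 (fun e0 => hy1 (Subtype.ext e0)) (congrArg Subtype.val hy2)
    (fun y hyX => congrArg Subtype.val (Subgroup.mem_center_iff.1 hy.2 ⟨y, hyX⟩)) hg hgA h1

theorem x_comm (h : Cx U) {e b : Ω} (hne : b ≠ e) {i j : G} (hi : i ∈ X U e b) (hj : j ∈ X U e b) :
    i * j = j * i := by
  have h1 := x_elem h hne (mul_mem hi hj)
  have h2 := inv_of_sq h1
  rw [mul_inv_rev, inv_of_sq (x_elem h hne hi), inv_of_sq (x_elem h hne hj)] at h2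
  exact h2.symm

theorem fix_eq (h : Cx U) {e b c : Ω} (hne : b ≠ e) (hce : c ≠ e) {x : G} (hxX : x ∈ X U e b) (hx1 : x ≠ 1)
    (hxc : x • c = c) : X U e c = X U e b := by
  have hxx := x_elem h hne hxX
  obtain ⟨hcent, hone, -, -⟩ := central_data h hne hxX hx1 hxx (fun y hy => x_comm h hne hy hxX)
  obtain ⟨u, hu, rfl⟩ := h.trans e b c hne hce
  obtain ⟨p, hp, o, ho, hodd, rfl⟩ := exists_po h hu
  have hx' : (p⁻¹ * x * p⁻¹⁻¹) • b = b := by
    have h1 : ((p * o)⁻¹ * x * (p * o)) • b = b := by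
      rw [mul_smul, mul_smul, hxc, inv_smul_smul]
    rwa [show (p * o)⁻¹ * x * (p * o) = o⁻¹ * (p⁻¹ * x * p⁻¹⁻¹) * o by group, mul_assoc,
      commute_odd h (mul_mem (mul_mem (inv_mem hp) hxX.1) (inv_mem (inv_mem hp))) ho hodd, inv_mul_cancel_left] at h1
  have hpx : p * x = x * p := by
    have h1 := hone _ (inv_mem hp) hx'
    rw [inv_inv] at h1
    conv_lhs => rw [← h1]
    group
  obtain ⟨a, ha, i, hi, rfl⟩ := hcent p hp hpx
  refine (Subgroup.eq_of_le_of_card_ge (show X U e b ≤ X U e _ from fun j hj => ⟨hj.1, mem_stabilizer_iff.2 ?_⟩)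
    (card_x h hce.symm hne.symm).le).symm
  have h1 : a * i * o * j * (a * i * o)⁻¹ = j := by
    rw [show a * i * o * j * (a * i * o)⁻¹ = a * (i * (o * j * o⁻¹) * i⁻¹) * a⁻¹ by group,
      ← commute_odd h hj.1 ho hodd, mul_inv_cancel_right, x_comm h hne hi hj, mul_inv_cancel_right,
      a_comm ha hj.1, mul_inv_cancel_right]
  rw [← h1, mul_smul, inv_smul_smul, mul_smul, mem_stabilizer_iff.1 hj.2]

/-- Odd elements fixing two points and their two-elements, transitive on the central involutions. -/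
theorem trans_a (h : Cx U) {e b : Ω} (hne : b ≠ e) {u u' : G} (hu : u ∈ A U e) (hu1 : u ≠ 1) (hu' : u' ∈ A U e)
    (hu1' : u' ≠ 1) : ∃ d : G, Odd (orderOf d) ∧ d • e = e ∧ d • b = b ∧ (∀ i ∈ X U e b, d * i = i * d) ∧
      d * u * d⁻¹ = u' := by
  obtain ⟨v, hv, hv1⟩ := exists_a h b
  obtain ⟨f, t, hfe, -, ht, ht1, htu, hte, htb⟩ := swap_invol h hne.symm hu hu1 hv hv1
  obtain ⟨f', t', hfe', -, ht', ht1', htu', hte', htb'⟩ := swap_invol h hne.symm hu' hu1' hv hv1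
  have hcomm : ∀ {f : Ω} {t : G}, f ≠ e → t ∈ A U f → t ≠ 1 → t • e = b → ∀ i ∈ X U e b, t * i = i * t :=
    fun {f t} hf ht ht1 hte i hi => by
      have h1 := x_triangle h hf.symm ht ht1
      rw [hte] at h1
      exact a_comm ht (show i ∈ X U f e from h1 ▸ hi).1
  refine ⟨t' * t, ?_, by rw [mul_smul, hte, htb'], by rw [mul_smul, htb, hte'], fun i hi => ?_, ?_⟩
  · rcases eq_or_ne f' f with rfl | hff
    · have hd1 : t' * t = 1 := by
        by_contra h2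
        exact hfe' (a_fix h (mul_mem ht' ht) h2 (by rw [mul_smul, hte, htb'])).symm
      rw [hd1, orderOf_one]; exact odd_one
    · exact odd_prod h hff ht' ht1' ht ht1
  · exact ((show Commute t' i from hcomm hfe' ht' ht1' hte' i hi).mul_left
      (show Commute t i from hcomm hfe ht ht1 hte i hi)).eq
  · rw [show t' * t * u * (t' * t)⁻¹ = t' * (t * u * t⁻¹) * t'⁻¹ by group, htu, ← htu', ← mul_assoc, ← mul_assoc,
      a_sq ht', one_mul, inv_of_sq (a_sq ht'), mul_assoc, a_sq ht', mul_one]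

theorem kappa_surj (h : Cx U) {e b : Ω} (hne : b ≠ e) {x : G} (hxX : x ∈ X U e b) (hx1 : x ≠ 1) {a : G}
    (ha : a ∈ A U e) : ∃ g ∈ Z₀ U e, g * x * g⁻¹ = a * x := by
  rcases eq_or_ne a 1 with rfl | ha1
  · exact ⟨1, one_mem _, by simp⟩
  obtain ⟨g, hg, hgA⟩ := exists_z0 h hne (fun e0 => hx1 (by rw [e0, Subgroup.mem_bot] at hxX; exact hxX))
  have hne1 := z0_not_commute h hne hxX hx1 (x_elem h hne hxX) (fun y hy => x_comm h hne hy hxX) hg hgA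
  obtain ⟨d, -, hde, -, hdX, hd⟩ := trans_a h hne (hg.2 x hxX.1) hne1 ha ha1
  refine ⟨d * g * d⁻¹, z0_conj h hde hg, ?_⟩
  have hdx : d * x * d⁻¹ = x := by rw [hdX x hxX, mul_inv_cancel_right]
  rw [show d * (g * x * g⁻¹ * x⁻¹) * d⁻¹ = d * g * d⁻¹ * (d * x * d⁻¹) * (d * g * d⁻¹)⁻¹ * (d * x * d⁻¹)⁻¹ by group,
    hdx, mul_inv_eq_iff_eq_mul] at hd
  exact hd

theorem z0_sq (h : Cx U) {e b : Ω} (hne : b ≠ e) {x : G} (hxX : x ∈ X U e b) (hx1 : x ≠ 1) {g : G}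
    (hg : g ∈ Z₀ U e) : g * g ∈ A U e := by
  by_contra hgA
  refine z0_not_commute h hne hxX hx1 (x_elem h hne hxX) (fun y hy => x_comm h hne hy hxX) (mul_mem hg hg) hgA ?_
  rw [show g * g * x * (g * g)⁻¹ * x⁻¹ = g * (g * x * g⁻¹ * x⁻¹) * g⁻¹ * (g * x * g⁻¹ * x⁻¹) by group,
    ← a_comm (hg.2 x hxX.1) hg.1, mul_inv_cancel_right]
  exact a_sq (hg.2 x hxX.1)

theorem card_z0_le (h : Cx U) {e b : Ω} (hne : b ≠ e) {x : G} (hxX : x ∈ X U e b) (hx1 : x ≠ 1) :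
    Nat.card (Z₀ U e) ≤ Nat.card (A U e) * Nat.card (A U e) := by
  let φ : Z₀ U e →* A U e :=
    { toFun := fun g => ⟨(g : G) * x * (g : G)⁻¹ * x⁻¹, g.2.2 x hxX.1⟩
      map_one' := Subtype.ext (by simp)
      map_mul' := fun g k => Subtype.ext (by
        show (g : G) * k * x * ((g : G) * k)⁻¹ * x⁻¹ = (g : G) * x * (g : G)⁻¹ * x⁻¹ * (k * x * (k : G)⁻¹ * x⁻¹)
        rw [show (g : G) * k * x * ((g : G) * k)⁻¹ * x⁻¹ =
          g * (k * x * (k : G)⁻¹ * x⁻¹) * (g : G)⁻¹ * (g * x * (g : G)⁻¹ * x⁻¹) by group,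
          ← a_comm (k.2.2 x hxX.1) g.2.1, mul_inv_cancel_right,
          a_comm (k.2.2 x hxX.1) (a_le e (g.2.2 x hxX.1))]) }
  rw [← φ.ker.card_mul_index, Subgroup.index_ker]
  refine Nat.mul_le_mul ?_ (Subgroup.card_le_card_group _)
  refine Nat.card_le_card_of_injective (fun g : φ.ker => (⟨(g : Z₀ U e), ?_⟩ : A U e))
    fun g k e0 => Subtype.ext (Subtype.ext (congrArg (fun z : A U e => (z : G)) e0))
  by_contra hgA
  exact z0_not_commute h hne hxX hx1 (x_elem h hne hxX) (fun y hy => x_comm h hne hy hxX) g.1.2 hgA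
    (congrArg Subtype.val (MonoidHom.mem_ker.1 g.2))

theorem x_two (h : Cx U) {e b : Ω} (hne : b ≠ e) {x y : G} (hxX : x ∈ X U e b) (hx1 : x ≠ 1) (hyX : y ∈ X U e b)
    (hy1 : y ≠ 1) : x = y := by
  by_contra hxy
  haveI : Fact (Nat.Prime 2) := ⟨Nat.prime_two⟩
  obtain ⟨-, -, hlt, hP⟩ := central_data h hne hxX hx1 (x_elem h hne hxX) (fun y hy => x_comm h hne hy hxX)
  obtain ⟨N, hN⟩ : ∃ N, N = Z₀ U e ⊔ X U e b := ⟨_, rfl⟩
  have hnorm : X U e b ≤ Subgroup.normalizer (Z₀ U e : Set G) := fun i hi => Subgroup.mem_normalizer_fintype fun g hg =>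
    z0_conj h (p_fix h hi.1) hg
  have hNP : N ≤ P U e := hN ▸ sup_le (fun g hg => hg.1) inf_le_left
  have hNmem : ∀ n ∈ N, ∃ g ∈ Z₀ U e, ∃ i ∈ X U e b, g * i = n := fun n hn => by
    rw [hN, ← SetLike.mem_coe, Subgroup.coe_mul_of_right_le_normalizer_left _ _ hnorm] at hn
    exact hn
  have hNne : N ≠ P U e := by
    intro hEq
    have h1 : Nat.card N ≤ Nat.card (Z₀ U e) * Nat.card (X U e b) := by
      rw [← Nat.card_prod]
      refine Nat.card_le_card_of_surjective (fun p : Z₀ U e × X U e b => (⟨p.1 * p.2, hN ▸ mul_mem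
        (Subgroup.mem_sup_left p.1.2) (Subgroup.mem_sup_right p.2.2)⟩ : N)) fun n => ?_
      obtain ⟨g, hg, i, hi, e0⟩ := hNmem n n.2
      exact ⟨(⟨g, hg⟩, ⟨i, hi⟩), Subtype.ext e0⟩
    rw [hEq, ← hP] at h1
    have h2 := card_z0_le h hne hxX hx1
    have h3 : 0 < Nat.card (X U e b) := Nat.card_pos
    have h4 : 0 < Nat.card (A U e) := Nat.card_pos
    have h5 : Nat.card (A U e) * (Nat.card (A U e) * Nat.card (X U e b)) <
        Nat.card {y // ∃ p ∈ P U e, p * x * p⁻¹ = y} * (Nat.card (A U e) * Nat.card (X U e b)) :=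
      Nat.mul_lt_mul_of_pos_right hlt (Nat.mul_pos h4 h3)
    have h6 : Nat.card (Z₀ U e) * Nat.card (X U e b) ≤
        Nat.card (A U e) * (Nat.card (A U e) * Nat.card (X U e b)) := by
      rw [← mul_assoc]; exact Nat.mul_le_mul_right _ h2
    omega
  obtain ⟨k, hkP, hkn, hkN⟩ : ∃ k ∈ P U e, (∀ n ∈ N, k * n * k⁻¹ ∈ N) ∧ k ∉ N := by
    haveI : Group.IsNilpotent (P U e) := (isPGroup_p h e).isNilpotent
    have hlt' : N.subgroupOf (P U e) < ⊤ :=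
      lt_top_iff_ne_top.2 fun e0 => hNne (le_antisymm hNP (Subgroup.subgroupOf_eq_top.1 e0))
    obtain ⟨k, hk, hk'⟩ := SetLike.exists_of_lt (normalizerCondition_of_isNilpotent _ hlt')
    refine ⟨k, k.2, fun n hn => ?_, fun h0 => hk' (Subgroup.mem_subgroupOf.2 h0)⟩
    exact Subgroup.mem_subgroupOf.1
      ((Subgroup.mem_normalizer_iff.1 hk ⟨n, hNP hn⟩).1 (Subgroup.mem_subgroupOf.2 hn))
  have himg : ∀ i ∈ X U e b, i ≠ 1 → ∃ g ∈ Z₀ U e, ∃ i' ∈ X U e b, k * i * k⁻¹ = g * i' ∧ i' ≠ 1 ∧ g ∉ A U e := by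
    intro i hi hi1
    obtain ⟨g, hg, i', hi', e0⟩ := hNmem _ (hkn i (hN ▸ Subgroup.mem_sup_right hi))
    have hii := x_elem h hne hi
    have hL : IsL Ω i := ⟨hi1, hii, e, b, hne.symm, p_fix h hi.1, mem_stabilizer_iff.1 hi.2⟩
    have hi'1 : i' ≠ 1 := fun e1 => z0_not_l h hg (by
      rw [e1, mul_one] at e0; rw [e0]; exact hL.conj k)
    refine ⟨g, hg, i', hi', e0.symm, hi'1, fun hgA => hkN ?_⟩
    obtain ⟨z, hz, hze⟩ := kappa_surj h hne hi' hi'1 hgA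
    obtain ⟨hcent, hone, -, -⟩ := central_data h hne hi hi1 hii (fun y hy => x_comm h hne hy hi)
    have hconj : z⁻¹ * k * i * (z⁻¹ * k)⁻¹ = i' := by
      rw [show z⁻¹ * k * i * (z⁻¹ * k)⁻¹ = z⁻¹ * (k * i * k⁻¹) * z by group, ← e0, ← hze]
      group
    have hpP : z⁻¹ * k ∈ P U e := mul_mem (inv_mem hz.1) hkP
    have hsame := hone _ hpP (by rw [hconj]; exact mem_stabilizer_iff.1 hi'.2)
    rw [mul_inv_eq_iff_eq_mul] at hsame
    obtain ⟨a, ha, j, hj, hk'⟩ := hcent _ hpP hsame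
    rw [show k = z * (a * j) by rw [← hk', mul_inv_cancel_left], hN]
    have haZ : a ∈ Z₀ U e := ⟨a_le e ha, fun p hp => by
      rw [a_comm ha hp, mul_inv_cancel_right, mul_inv_cancel]; exact one_mem _⟩
    exact mul_mem (Subgroup.mem_sup_left hz) (mul_mem (Subgroup.mem_sup_left haZ) (Subgroup.mem_sup_right hj))
  have hsq : ∀ i ∈ X U e b, i ≠ 1 → ∀ g ∈ Z₀ U e, ∀ i' ∈ X U e b, k * i * k⁻¹ = g * i' → i' ≠ 1 → g ∉ A U e →
      ∀ g₁ ∈ Z₀ U e, g₁ * g₁ = g₁ * i' * g₁⁻¹ * i'⁻¹ := by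
    intro i hi hi1 g hg i' hi' e0 hi'1 hgA g₁ hg₁
    by_cases hg₁A : g₁ ∈ A U e
    · rw [a_sq hg₁A, a_comm hg₁A hi'.1, mul_inv_cancel_right, mul_inv_cancel]
    have hii' := x_elem h hne hi'
    have hgg : g * g = g * i' * g⁻¹ * i'⁻¹ := by
      have h1 : g * i' * (g * i') = 1 := by rw [← e0]; exact conj_sq (x_elem h hne hi) k
      rw [inv_of_sq hii']
      calc g * g = g * i' * (i' * g) := by rw [mul_assoc g i', ← mul_assoc i' i', hii', one_mul]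
        _ = g * i' * (g⁻¹ * (g * i' * g)) := by group
        _ = g * i' * (g⁻¹ * (g * i' * (g * i') * i')) := by
            rw [show g * i' * (g * i') * i' = g * i' * g * (i' * i') by group, hii', mul_one]
        _ = g * i' * g⁻¹ * i' := by rw [h1, one_mul]; group
    have hne1 := z0_not_commute h hne hi' hi'1 hii' (fun y hy => x_comm h hne hy hi') hg hgA
    have hne2 := z0_not_commute h hne hi' hi'1 hii' (fun y hy => x_comm h hne hy hi') hg₁ hg₁A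
    obtain ⟨d, -, hde, -, hdX, hd⟩ := trans_a h hne (hg.2 i' hi'.1) hne1 (hg₁.2 i' hi'.1) hne2
    have hdi : d * i' * d⁻¹ = i' := by rw [hdX i' hi', mul_inv_cancel_right]
    have hdgg : d * g * d⁻¹ * (d * g * d⁻¹) = g₁ * i' * g₁⁻¹ * i'⁻¹ := by
      rw [conj_mul, hgg, hd]
    have hκ : d * g * d⁻¹ * i' * (d * g * d⁻¹)⁻¹ = g₁ * i' * g₁⁻¹ := by
      rw [show d * (g * i' * g⁻¹ * i'⁻¹) * d⁻¹ =
        d * g * d⁻¹ * (d * i' * d⁻¹) * (d * g * d⁻¹)⁻¹ * (d * i' * d⁻¹)⁻¹ by group, hdi] at hd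
      exact mul_right_cancel hd
    have hkA : g₁⁻¹ * (d * g * d⁻¹) ∈ A U e := by
      by_contra hkA
      refine z0_not_commute h hne hi' hi'1 hii' (fun y hy => x_comm h hne hy hi')
        (mul_mem (inv_mem hg₁) (z0_conj h hde hg)) hkA ?_
      rw [show g₁⁻¹ * (d * g * d⁻¹) * i' * (g₁⁻¹ * (d * g * d⁻¹))⁻¹ * i'⁻¹ =
        g₁⁻¹ * (d * g * d⁻¹ * i' * (d * g * d⁻¹)⁻¹) * g₁ * i'⁻¹ by group, hκ]
      group
    rw [← hdgg]
    obtain ⟨a, ha, hga⟩ : ∃ a, a ∈ A U e ∧ d * g * d⁻¹ = g₁ * a := ⟨_, hkA, by group⟩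
    rw [hga, show g₁ * a * (g₁ * a) = g₁ * (a * g₁) * a by group, a_comm ha hg₁.1, ← mul_assoc, mul_assoc _ a a,
      a_sq ha, mul_one]
  obtain ⟨g, hg, x', hx', ex, hx'1, hgA⟩ := himg x hxX hx1
  obtain ⟨g', hg', y', hy', ey, hy'1, hgA'⟩ := himg y hyX hy1
  have hne' : x' ≠ y' := by
    rintro rfl
    have hxy1 : x * y ≠ 1 := fun e0 => hxy (by rw [mul_eq_one_iff_eq_inv.1 e0, inv_of_sq (x_elem h hne hyX)])
    have hL : IsL Ω (x * y) := ⟨hxy1, x_elem h hne (mul_mem hxX hyX), e, b, hne.symm,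
      p_fix h (mul_mem hxX hyX).1, mem_stabilizer_iff.1 (mul_mem hxX hyX).2⟩
    refine z0_not_l h (e := e) ?_ (hL.conj k)
    rw [← conj_mul, ex, ey, show g * x' * (g' * x') = g * (x' * g' * x') by group]
    refine mul_mem hg ?_
    nth_rewrite 2 [← inv_of_sq (x_elem h hne hx')]
    exact z0_conj h (p_fix h hx'.1) hg'
  have hxy' : x' * y' ≠ 1 := fun e0 => hne' (by rw [mul_eq_one_iff_eq_inv.1 e0, inv_of_sq (x_elem h hne hy')])
  obtain ⟨g₁, hg₁, hg₁A⟩ := exists_z0 h hne (fun e0 => hx1 (by rw [e0, Subgroup.mem_bot] at hxX; exact hxX))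
  refine z0_not_commute h hne (mul_mem hx' hy') hxy' (x_elem h hne (mul_mem hx' hy'))
    (fun z hz => x_comm h hne hz (mul_mem hx' hy')) hg₁ hg₁A ?_
  have e1 := hsq x hxX hx1 g hg x' hx' ex hx'1 hgA g₁ hg₁
  have e2 := hsq y hyX hy1 g' hg' y' hy' ey hy'1 hgA' g₁ hg₁
  rw [show g₁ * (x' * y') * g₁⁻¹ * (x' * y')⁻¹ =
    (g₁ * x' * g₁⁻¹ * x'⁻¹) * (x' * (g₁ * y' * g₁⁻¹ * y'⁻¹) * x'⁻¹) by group, ← a_comm (hg₁.2 y' hy'.1) hx'.1,
    mul_inv_cancel_right, ← e1, e2]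
  exact a_sq (hg₁.2 y' hy'.1)

/-- Two-point stabilisers contain no element of two-power order. -/
theorem x_bot (h : Cx U) {e b : Ω} (hne : b ≠ e) : X U e b = ⊥ := by
  classical
  by_contra hX
  haveI : Fact (Nat.Prime 2) := ⟨Nat.prime_two⟩
  obtain ⟨x, hxX, hx1⟩ := (Subgroup.bot_or_exists_ne_one _).resolve_left hX
  have hxx := x_elem h hne hxX
  have honly : ∀ i ∈ X U e b, i = 1 ∨ i = x := fun i hi => (eq_or_ne i 1).imp_right fun hi1 =>
    x_two h hne hi hi1 hxX hx1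
  obtain ⟨hcent, -, -, -⟩ := central_data h hne hxX hx1 hxx (fun y hy => x_comm h hne hy hxX)
  obtain ⟨D, hD⟩ : ∃ D, D = stabilizer G e ⊓ stabilizer G b := ⟨_, rfl⟩
  have hDmem : ∀ {d}, d ∈ D ↔ d • e = e ∧ d • b = b := fun {d} => by
    rw [hD, Subgroup.mem_inf, mem_stabilizer_iff, mem_stabilizer_iff]
  have hDx : ∀ d ∈ D, d * x = x * d := fun d hd => by
    obtain ⟨h1, h2, h3⟩ := (mem_x h).1 hxX
    have hm : d * x * d⁻¹ ∈ X U e b := by
      refine (mem_x h).2 ⟨isTwo_conj h1 d, ?_, ?_⟩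
      · rw [mul_smul, inv_smul_eq_iff.2 (hDmem.1 hd).1.symm, mul_smul, h2, (hDmem.1 hd).1]
      · rw [mul_smul, inv_smul_eq_iff.2 (hDmem.1 hd).2.symm, mul_smul, h3, (hDmem.1 hd).2]
    rcases honly _ hm with h0 | h0
    · exact absurd (conj_eq_one_iff.1 h0) hx1
    · exact mul_inv_eq_iff_eq_mul.1 h0
  have hxD : x ∈ D := hDmem.2 ⟨p_fix h hxX.1, mem_stabilizer_iff.1 hxX.2⟩
  obtain ⟨T, hT⟩ : ∃ T, T = Subgroup.zpowers (⟨x, hxD⟩ : D) := ⟨_, rfl⟩
  haveI hTn : T.Normal := by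
    rw [hT]
    refine ⟨fun z hz g => ?_⟩
    obtain ⟨j, rfl⟩ := Subgroup.mem_zpowers_iff.1 hz
    rw [show g * (⟨x, hxD⟩ : D) ^ j * g⁻¹ = (⟨x, hxD⟩ : D) ^ j by
      rw [← conj_zpow]
      congr 1
      refine Subtype.ext ?_
      show (g : G) * x * (g : G)⁻¹ = x
      rw [hDx g g.2, mul_inv_cancel_right]]
    exact Subgroup.zpow_mem_zpowers _ _
  have hxo : orderOf (⟨x, hxD⟩ : D) = 2 :=
    orderOf_eq_prime (Subtype.ext (by rw [SubgroupClass.coe_pow, pow_two]; exact hxx))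
      fun e0 => hx1 (congrArg Subtype.val e0)
  have hTcard : Nat.card T = 2 := by rw [hT, Nat.card_zpowers, hxo]
  have hTidx : ¬ 2 ∣ T.index := by
    have hTp : IsPGroup 2 T := IsPGroup.of_card (n := 1) (by rw [hTcard, pow_one])
    obtain ⟨S, hS⟩ := hTp.exists_le_sylow
    have hST : (S : Subgroup D) = T := by
      refine le_antisymm (fun s hs => ?_) hS
      obtain ⟨k, hk⟩ := S.isPGroup' ⟨s, hs⟩
      have hm : (s : G) ∈ X U e b := (mem_x h).2 ⟨⟨k, congrArg (fun z : (S : Subgroup D) => ((z : D) : G)) hk⟩,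
        (hDmem.1 s.2).1, (hDmem.1 s.2).2⟩
      rcases honly _ hm with h0 | h0
      · rw [show s = 1 from Subtype.ext h0]; exact one_mem _
      · rw [hT, show s = ⟨x, hxD⟩ from Subtype.ext h0]; exact Subgroup.mem_zpowers _
    exact hST ▸ S.not_dvd_index
  obtain ⟨C, hC⟩ := Subgroup.exists_right_complement'_of_coprime (N := T)
    (by rw [hTcard]; exact (Nat.prime_two.coprime_iff_not_dvd.2 hTidx))
  have hCodd : Odd (Nat.card C) := by
    rw [← hC.symm.index_eq_card]; exact Nat.odd_iff.2 (Nat.two_dvd_ne_zero.1 hTidx)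
  have hodd : ∀ d : D, Odd (orderOf d) → d ∈ C := by
    intro d hd
    obtain ⟨⟨⟨t, ht⟩, ⟨c, hc⟩⟩, htc, -⟩ := hC.existsUnique d
    simp only at htc
    rw [hT] at ht
    obtain ⟨j, rfl⟩ := Subgroup.mem_zpowers_iff.1 ht
    have hcomm : Commute ((⟨x, hxD⟩ : D) ^ j) c :=
      (show Commute (⟨x, hxD⟩ : D) c from Subtype.ext (hDx c c.2).symm).zpow_left j
    have hj : ((⟨x, hxD⟩ : D) ^ j) ^ 2 = 1 := by
      rw [← zpow_natCast, zpow_comm, zpow_natCast, ← hxo, pow_orderOf_eq_one, one_zpow]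
    obtain ⟨m, hm⟩ := hd
    obtain ⟨l, hl⟩ := hCodd
    have hc1 : c ^ (2 * l + 1) = 1 := by
      rw [← hl]; exact congrArg Subtype.val (pow_card_eq_one' (x := (⟨c, hc⟩ : C)))
    have hd1 : d ^ ((2 * m + 1) * (2 * l + 1)) = 1 := by rw [pow_mul, ← hm, pow_orderOf_eq_one, one_pow]
    rw [← htc, hcomm.mul_pow, mul_comm (2 * m + 1), pow_mul c, hc1, one_pow, mul_one,
      show (2 * l + 1) * (2 * m + 1) = 2 * (2 * l * m + l + m) + 1 by ring, pow_succ, pow_mul, hj, one_pow,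
      one_mul] at hd1
    rw [← htc, hd1, one_mul]
    exact hc
  let ρ : C →* MulAut (P U e) :=
    { toFun := fun c =>
        { toFun := fun p => ⟨((c : D) : G) * p * ((c : D) : G)⁻¹, p_conj_fix h (hDmem.1 (c : D).2).1 p.2⟩
          invFun := fun p => ⟨((c : D) : G)⁻¹ * p * ((c : D) : G)⁻¹⁻¹,
            p_conj_fix h (inv_smul_eq_iff.2 (hDmem.1 (c : D).2).1.symm) p.2⟩
          left_inv := fun p => Subtype.ext (by simp [mul_assoc])
          right_inv := fun p => Subtype.ext (by simp [mul_assoc])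
          map_mul' := fun p p' => Subtype.ext (by simp [mul_assoc]) }
      map_one' := MulEquiv.ext fun p => Subtype.ext (by simp)
      map_mul' := fun c c' => MulEquiv.ext fun p => Subtype.ext (by simp [mul_assoc]) }
  have hρ : ∀ (c : C) (p : P U e), ((ρ c p : P U e) : G) = ((c : D) : G) * p * ((c : D) : G)⁻¹ := fun c p => rfl
  have hxA : x ∉ A U e := fun h0 => hne (a_fix h h0 hx1 (mem_stabilizer_iff.1 hxX.2))
  obtain ⟨z₁, hz₁, hz₁1⟩ := exists_a h e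
  obtain ⟨z₂, hz₂, hz₂1, hz₂₁⟩ := exists_a_ne h e hz₁ hz₁1
  have hfrat : (⟨x, hxX.1⟩ : P U e) ∉ frattini (P U e) := by
    refine not_mem_frattini hCodd ρ (x := ⟨x, hxX.1⟩) (Z := (A U e).subgroupOf (P U e)) (isPGroup_p h e) (Subtype.ext hxx)
      (fun e0 => hx1 (congrArg Subtype.val e0)) (fun c => Subtype.ext ?_) hxA
      (fun z hz => Subtype.ext (a_sq hz)) (fun z hz => Subtype.ext (a_comm hz hxX.1)) (fun y hy => ?_)
      (fun c z hz => ?_) (fun z hz z' hz' hz1 hz1' => ?_)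
      ⟨⟨z₁, a_le e hz₁⟩, hz₁, ⟨z₂, a_le e hz₂⟩, hz₂, fun e0 => hz₁1 (congrArg Subtype.val e0),
        fun e0 => hz₂1 (congrArg Subtype.val e0), fun e0 => hz₂₁ (congrArg Subtype.val e0).symm⟩
    · rw [hρ, hDx _ (c : D).2, mul_inv_cancel_right]
    · obtain ⟨a, ha, i, hi, e0⟩ := hcent _ y.2 (congrArg Subtype.val hy)
      rcases honly i hi with h0 | h0 <;> rw [h0] at e0
      · left; show (y : G) ∈ A U e; rw [e0, mul_one]; exact ha
      · right; show (y : G) * x ∈ A U e; rw [e0, mul_assoc, hxx, mul_one]; exact ha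
    · show ((ρ c z : P U e) : G) ∈ A U e
      rw [hρ]
      exact a_conj_fix h (hDmem.1 (c : D).2).1 hz
    · obtain ⟨d, hdo, hde, hdb, -, hd⟩ := trans_a h hne (u := z) (u' := z') hz
        (fun e0 => hz1 (Subtype.ext e0)) hz' (fun e0 => hz1' (Subtype.ext e0))
      exact ⟨⟨⟨d, hDmem.2 ⟨hde, hdb⟩⟩, hodd _ (by rw [← Subgroup.orderOf_coe]; exact hdo)⟩, Subtype.ext hd⟩
  rw [frattini, Order.radical, Subgroup.mem_iInf] at hfrat
  push Not at hfrat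
  obtain ⟨M, hM⟩ := hfrat
  rw [Subgroup.mem_iInf] at hM
  push Not at hM
  obtain ⟨hMc, hxM⟩ := hM
  obtain ⟨S, hS⟩ := exists_sylow_eq h e
  obtain ⟨hMn, hMi⟩ := Grp.coatom_index_eq_of_pGroup (isPGroup_p h e) hMc
  haveI := hMn
  haveI : Fact (Nat.card (↥(P U e) ⧸ M)).Prime := ⟨by rw [← Subgroup.index_eq_card, hMi]; exact Nat.prime_two⟩
  haveI hcyc : IsCyclic (↥(P U e) ⧸ M) :=
    isCyclic_of_prime_card (p := 2) (by rw [← Subgroup.index_eq_card, hMi])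
  letI : CommGroup (↥(P U e) ⧸ M) := IsCyclic.commGroup
  let φ : ↥(P U e) →* ↥(P U e) ⧸ M := QuotientGroup.mk' M
  have hφx : φ ⟨x, hxX.1⟩ ≠ 1 := fun e0 => hxM ((QuotientGroup.eq_one_iff _).1 e0)
  have hval : ∀ g : G, ∀ hg : g⁻¹ * x * g ∈ P U e, φ ⟨g⁻¹ * x * g, hg⟩ = φ ⟨x, hxX.1⟩ := by
    intro g hg
    have hfix : x • g • e = g • e := by
      have h1 := p_fix h hg
      rwa [mul_smul, mul_smul, inv_smul_eq_iff] at h1
    obtain ⟨k, hk, hkx⟩ := fix_trans h (isTwo_of_sq hxx) (p_fix h hxX.1) hfix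
    have hkb : (g⁻¹ * k) • b ≠ e := fun e0 => hne (by
      have h1 : (g⁻¹ * k) • e = e := by rw [mul_smul, hk, inv_smul_smul]
      exact smul_left_cancel _ (e0.trans h1.symm))
    obtain ⟨u, hu, hub⟩ := h.trans e b ((g⁻¹ * k) • b) hne hkb
    have hd : u⁻¹ * (g⁻¹ * k) ∈ D := by
      refine hDmem.2 ⟨?_, by rw [mul_smul, ← hub, inv_smul_smul]⟩
      rw [mul_smul, mul_smul, hk, inv_smul_smul, inv_smul_eq_iff, mem_stabilizer_iff.1 (h.le e hu)]
    obtain ⟨p, hp, o, ho, hoo, rfl⟩ := exists_po h hu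
    have hgx : g⁻¹ * x * g = p * x * p⁻¹ := by
      have h1 : (g⁻¹ * k) * x * (g⁻¹ * k)⁻¹ = g⁻¹ * x * g := by
        rw [show (g⁻¹ * k) * x * (g⁻¹ * k)⁻¹ = g⁻¹ * (k * x * k⁻¹) * g by group, ← hkx, mul_inv_cancel_right]
      have h2 := hDx _ hd
      have h4 : g⁻¹ * k = p * o * ((p * o)⁻¹ * (g⁻¹ * k)) := by group
      rw [← h1, h4]
      generalize (p * o)⁻¹ * (g⁻¹ * k) = d at h2
      rw [show p * o * d * x * (p * o * d)⁻¹ = p * (o * (d * x * d⁻¹) * o⁻¹) * p⁻¹ by group, h2,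
        mul_inv_cancel_right, ← commute_odd h hxX.1 ho hoo, mul_inv_cancel_right]
    have h3 : (⟨g⁻¹ * x * g, hg⟩ : P U e) = ⟨p, hp⟩ * ⟨x, hxX.1⟩ * ⟨p, hp⟩⁻¹ := Subtype.ext hgx
    rw [h3, map_mul, map_mul, map_inv, mul_comm (φ ⟨p, hp⟩), mul_inv_cancel_right]
  haveI : Fintype (G ⧸ (P U e)) := Fintype.ofFinite _
  have htr : MonoidHom.transfer φ x = φ ⟨x, hxX.1⟩ := by
    rw [Invol.transfer_involution φ hxx]
    have hoddfix : Odd (Nat.card {q : G ⧸ P U e // x • q = q}) := by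
      have := Invol.odd_card_fixed S (z := x) (orderOf_eq_prime (by rw [pow_two, hxx]) hx1)
      rwa [hS] at this
    have hterm : ∀ q : G ⧸ P U e, (if hq : q.out⁻¹ * x * q.out ∈ P U e then φ ⟨_, hq⟩ else 1) =
        if x • q = q then φ ⟨x, hxX.1⟩ else 1 := fun q => by
      have hiff : q.out⁻¹ * x * q.out ∈ P U e ↔ x • q = q := by
        rw [← Invol.smul_mk_eq_iff, QuotientGroup.out_eq']
      by_cases hq : x • q = q
      · rw [dif_pos (hiff.2 hq), if_pos hq, hval]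
      · rw [dif_neg (mt hiff.1 hq), if_neg hq]
    rw [Finset.prod_congr rfl fun q _ => hterm q, Finset.prod_ite, Finset.prod_const_one, mul_one, Finset.prod_const,
      ← Fintype.card_subtype, ← Nat.card_eq_fintype_card]
    obtain ⟨m, hm⟩ := hoddfix
    have h2 : φ ⟨x, hxX.1⟩ ^ 2 = 1 := by rw [← map_pow, pow_two, show (⟨x, hxX.1⟩ : P U e) * ⟨x, hxX.1⟩ = 1 from
      Subtype.ext hxx, map_one]
    rw [hm, pow_succ, pow_mul, h2, one_pow, one_mul]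
  rcases (MonoidHom.transfer φ).normal_ker.eq_bot_or_eq_top with hk | hk
  · obtain ⟨a, c, hac⟩ := noncomm h
    exact hac ((MonoidHom.ker_eq_bot_iff _).1 hk (by rw [map_mul, map_mul, mul_comm]))
  · exact hφx (htr.symm.trans (MonoidHom.mem_ker.1 (hk ▸ Subgroup.mem_top x)))

end Cfsg.Agent.Transfer.RankOneCor
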