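import Cfsg.Agent.Lib.Transfer.CN.MaxNilpotent
import Cfsg.Agent.Lib.Transfer.RankOneCor.Basic

/-!
A simple group doubly transitive of odd degree whose point stabiliser has a transitive nilpotent normal subgroup
containing its elements of two-power order: central involutions, their products and the decomposition of the other
involutions.
-/

set_option autoImplicit false
set_option linter.unusedSectionVars false
set_option linter.style.haveILetI false

namespace Cfsg.Agent.Transfer.RankOneCor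

open MulAction

universe u v

/-- Of two-power order. -/
def IsTwo {G : Type u} [Group G] (x : G) : Prop := ∃ k : ℕ, x ^ 2 ^ k = 1

/-- The hypotheses on the family of normal subgroups of the point stabilisers. -/
structure Cx {G : Type u} {Ω : Type v} [Group G] [MulAction G Ω] (U : Ω → Subgroup G) : Prop where
  le : ∀ e, U e ≤ stabilizer G e
  conj : ∀ (g : G) (e : Ω), ∀ x ∈ U e, g * x * g⁻¹ ∈ U (g • e)
  nilp : ∀ e, Group.IsNilpotent (U e)
  trans : ∀ e c d : Ω, c ≠ e → d ≠ e → ∃ u ∈ U e, u • c = d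
  odd_omega : Odd (Nat.card Ω)
  three : 3 ≤ Nat.card Ω
  two_mem : ∀ (e : Ω) (x : G), x • e = e → IsTwo x → x ∈ U e

section Elem

variable {G : Type u} [Group G]

theorem isTwo_one : IsTwo (1 : G) := ⟨0, one_pow _⟩

theorem isTwo_conj {x : G} (h : IsTwo x) (g : G) : IsTwo (g * x * g⁻¹) := by
  obtain ⟨k, hk⟩ := h
  exact ⟨k, by rw [conj_pow, hk, mul_one, mul_inv_cancel]⟩

theorem isTwo_of_sq {x : G} (h : x * x = 1) : IsTwo x := ⟨1, by rw [pow_one, pow_two, h]⟩

theorem isTwo_mem {P : Subgroup G} (hP : IsPGroup 2 P) {x : G} (hx : x ∈ P) : IsTwo x := by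
  obtain ⟨k, hk⟩ := hP ⟨x, hx⟩
  exact ⟨k, congrArg Subtype.val hk⟩

theorem orderOf_coprime {x y : G} (hx : IsTwo x) (hy : Odd (orderOf y)) : (orderOf x).Coprime (orderOf y) := by
  obtain ⟨k, hk⟩ := hx
  exact Nat.Coprime.of_dvd_left (orderOf_dvd_of_pow_eq_one hk) (Nat.Coprime.pow_left _ (Nat.coprime_two_left.2 hy))

theorem inv_of_sq {x : G} (h : x * x = 1) : x⁻¹ = x := inv_eq_of_mul_eq_one_right h

theorem conj_ne_one {x : G} (h : x ≠ 1) (g : G) : g * x * g⁻¹ ≠ 1 := fun e => h (conj_eq_one_iff.1 e)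

theorem conj_sq {x : G} (h : x * x = 1) (g : G) : g * x * g⁻¹ * (g * x * g⁻¹) = 1 := by
  rw [conj_mul, h, mul_one, mul_inv_cancel]

theorem comm_conj {x y g : G} (h : g * x = x * g) : (g * y * g⁻¹) * x = x * (g * y * g⁻¹) ↔ y * x = x * y := by
  constructor <;> intro e
  · have h' : g⁻¹ * x = x * g⁻¹ := (show Commute g x from h).inv_left.eq
    calc y * x = g⁻¹ * ((g * y * g⁻¹) * x) * g := by rw [mul_assoc _ g⁻¹ x, h']; simp [mul_assoc, h]
      _ = g⁻¹ * x * (g * y) := by rw [e]; group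
      _ = x * y := by rw [h']; group
  · exact ((show Commute g x from h).mul_left e).mul_left (show Commute g x from h).inv_left

/-- In the dihedral group of two involutions with product of odd order, a half power carries one to the other. -/
theorem half_pow {u v : G} (hu : u * u = 1) (hv : v * v = 1) {s : ℕ} (hs : (u * v) ^ (2 * s + 1) = 1) :
    (u * v) ^ s * u * ((u * v) ^ s)⁻¹ = v := by
  have hinv : u * (u * v) * u⁻¹ = (u * v)⁻¹ := by
    rw [mul_inv_rev, inv_of_sq hu, inv_of_sq hv, ← mul_assoc, hu, one_mul]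
  have h1 : u * ((u * v) ^ s)⁻¹ = (u * v) ^ s * u := by
    have h2 : u * (u * v) ^ s * u⁻¹ = ((u * v) ^ s)⁻¹ := by rw [← conj_pow, hinv, inv_pow]
    rw [inv_of_sq hu] at h2
    rw [← h2, ← mul_assoc, ← mul_assoc, hu, one_mul]
  rw [mul_assoc, h1, ← mul_assoc, ← pow_add]
  have h3 : (u * v) ^ (s + s) = (u * v)⁻¹ := by
    rw [eq_inv_iff_mul_eq_one, ← pow_succ, ← two_mul, hs]
  rw [h3, mul_inv_rev, inv_of_sq hu, inv_of_sq hv, mul_assoc, hu, mul_one]

theorem commute_pow_prod {u v x : G} (h1 : x * u = u * x) (h2 : x * v = v * x) (n : ℕ) :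
    x * (u * v) ^ n = (u * v) ^ n * x := ((show Commute x u from h1).mul_right h2).pow_right n

end Elem

section Points

variable {G : Type u} {Ω : Type v} [Group G] [MulAction G Ω] {U : Ω → Subgroup G}

/-- The elements of two-power order of the subgroup of a point. -/
def P (U : Ω → Subgroup G) (e : Ω) : Subgroup G := Subgroup.closure {x : G | x ∈ U e ∧ IsTwo x}

theorem p_le (e : Ω) : P U e ≤ U e := (Subgroup.closure_le _).2 fun _ h => h.1

/-- The involutions central among the elements of two-power order. -/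
def A (U : Ω → Subgroup G) (e : Ω) : Subgroup G where
  carrier := {x | x ∈ P U e ∧ x * x = 1 ∧ ∀ y ∈ P U e, x * y = y * x}
  one_mem' := ⟨one_mem _, one_mul 1, fun y _ => by rw [one_mul, mul_one]⟩
  mul_mem' := fun {x y} hx hy => ⟨mul_mem hx.1 hy.1, by
      rw [mul_assoc, ← mul_assoc y x, hy.2.2 x hx.1, mul_assoc x y y, hy.2.1, mul_one, hx.2.1],
    fun z hz => ((show Commute x z from hx.2.2 z hz).mul_left (hy.2.2 z hz)).eq⟩
  inv_mem' := fun {x} hx => by
    rw [inv_of_sq hx.2.1]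
    exact hx

theorem a_le (e : Ω) : A U e ≤ P U e := fun _ h => h.1

theorem a_sq {e : Ω} {x : G} (hx : x ∈ A U e) : x * x = 1 := hx.2.1

theorem a_comm {e : Ω} {x y : G} (hx : x ∈ A U e) (hy : y ∈ P U e) : x * y = y * x := hx.2.2 y hy

/-- An involution not among the central ones. -/
def NA (U : Ω → Subgroup G) (x : G) : Prop := x * x = 1 ∧ ∀ e, x ∉ A U e

/-- An involution fixing two points. -/
def IsL (Ω : Type v) [MulAction G Ω] (x : G) : Prop :=
  x ≠ 1 ∧ x * x = 1 ∧ ∃ e c : Ω, e ≠ c ∧ x • e = e ∧ x • c = c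

theorem IsL.conj {x : G} (h : IsL Ω x) (g : G) : IsL Ω (g * x * g⁻¹) := by
  obtain ⟨h1, h2, e, c, hne, he, hc⟩ := h
  refine ⟨conj_ne_one h1 g, conj_sq h2 g, g • e, g • c, fun h => hne (smul_left_cancel g h), ?_, ?_⟩
  · rw [mul_smul, inv_smul_smul, mul_smul, he]
  · rw [mul_smul, inv_smul_smul, mul_smul, hc]

theorem IsL.of_isConj {x y : G} (h : IsL Ω x) (hc : IsConj x y) : IsL Ω y := by
  obtain ⟨g, rfl⟩ := isConj_iff.1 hc
  exact h.conj g

/-- The elements of two-power order fixing two points. -/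
def X (U : Ω → Subgroup G) (e c : Ω) : Subgroup G := P U e ⊓ stabilizer G c

variable [Finite G]

theorem isPGroup_p (h : Cx U) (e : Ω) : IsPGroup 2 (P U e) := by
  haveI : Fact (Nat.Prime 2) := ⟨Nat.prime_two⟩
  haveI := h.nilp e
  let S : Sylow 2 (U e) := default
  haveI hS : (S : Subgroup (U e)).Normal := inferInstance
  refine (S.isPGroup'.map (U e).subtype).to_le ((Subgroup.closure_le _).2 ?_)
  rintro x ⟨hx, k, hk⟩
  have hzp : IsPGroup 2 (Subgroup.zpowers (⟨x, hx⟩ : U e)) := by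
    rintro ⟨y, hy⟩
    obtain ⟨i, rfl⟩ := Subgroup.mem_zpowers_iff.1 hy
    refine ⟨k, Subtype.ext ?_⟩
    rw [SubgroupClass.coe_pow, ← zpow_natCast, ← zpow_mul, mul_comm, zpow_mul, zpow_natCast,
      show (⟨x, hx⟩ : U e) ^ 2 ^ k = 1 from Subtype.ext hk, one_zpow]
    rfl
  obtain ⟨S', hS'⟩ := hzp.exists_le_sylow
  haveI : Subsingleton (Sylow 2 (U e)) := (Sylow.unique_of_normal S hS).instSubsingleton
  rw [Subsingleton.elim S' S] at hS'
  exact ⟨⟨x, hx⟩, hS' (Subgroup.mem_zpowers _), rfl⟩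

theorem p_two (h : Cx U) {e : Ω} {x : G} (hx : x ∈ P U e) : IsTwo x := isTwo_mem (isPGroup_p h e) hx

theorem mem_p (h : Cx U) {e : Ω} {x : G} (h1 : x • e = e) (h2 : IsTwo x) : x ∈ P U e :=
  Subgroup.subset_closure ⟨h.two_mem e x h1 h2, h2⟩

theorem p_fix (h : Cx U) {e : Ω} {x : G} (hx : x ∈ P U e) : x • e = e := mem_stabilizer_iff.1 (h.le e (p_le e hx))

theorem conj_p (h : Cx U) (g : G) {e : Ω} {x : G} (hx : x ∈ P U e) : g * x * g⁻¹ ∈ P U (g • e) :=
  mem_p h (by rw [mul_smul, inv_smul_smul, mul_smul, p_fix h hx]) (isTwo_conj (p_two h hx) g)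

theorem commute_odd (h : Cx U) {e : Ω} {x y : G} (hx : x ∈ P U e) (hy : y ∈ U e) (ho : Odd (orderOf y)) :
    x * y = y * x := by
  obtain ⟨H, hH, hle⟩ := CN.exists_maxNil (h.nilp e)
  exact (hH.commute_coprime (hle (p_le e hx)) (hle hy) (orderOf_coprime (p_two h hx) ho)).eq

theorem exists_po (h : Cx U) {e : Ω} {u : G} (hu : u ∈ U e) :
    ∃ p ∈ P U e, ∃ o ∈ U e, Odd (orderOf o) ∧ u = p * o := by
  obtain ⟨S, O, hs, -⟩ := RankOne.exists_split (h.nilp e)
  obtain ⟨p, hp, o, ho, rfl⟩ := hs.mul u hu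
  exact ⟨p, Subgroup.subset_closure ⟨hs.s_le hp, isTwo_mem hs.two hp⟩, o, hs.o_le ho,
    hs.odd.of_dvd_nat (Subgroup.orderOf_dvd_natCard O ho), rfl⟩

theorem a_central (h : Cx U) {e : Ω} {x : G} (hx : x ∈ A U e) {u : G} (hu : u ∈ U e) : x * u = u * x := by
  obtain ⟨p, hp, o, ho, hodd, rfl⟩ := exists_po h hu
  rw [← mul_assoc, a_comm hx hp, mul_assoc, commute_odd h (a_le e hx) ho hodd, mul_assoc]

variable [FaithfulSMul G Ω]

theorem a_fix (h : Cx U) {e c : Ω} {x : G} (hx : x ∈ A U e) (h1 : x ≠ 1) (hc : x • c = c) : c = e := by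
  by_contra hne
  refine h1 (eq_of_smul_eq_smul (α := Ω) fun d => ?_)
  rw [one_smul]
  rcases eq_or_ne d e with rfl | hd
  · exact p_fix h (a_le d hx)
  · obtain ⟨u, hu, rfl⟩ := h.trans e c d hne hd
    rw [smul_smul, a_central h hx hu, mul_smul, hc]

theorem a_cent (h : Cx U) {e : Ω} {x : G} (hx : x ∈ A U e) (h1 : x ≠ 1) {g : G} (hg : g * x = x * g) :
    g • e = e :=
  a_fix h hx h1 (by rw [smul_smul, ← hg, mul_smul, p_fix h (a_le e hx)])

theorem a_conj (h : Cx U) (g : G) {e : Ω} {x : G} (hx : x ∈ A U e) : g * x * g⁻¹ ∈ A U (g • e) := by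
  refine ⟨conj_p h g (a_le e hx), conj_sq (a_sq hx) g, fun y hy => ?_⟩
  have h1 := a_comm hx (show g⁻¹ * y * g ∈ P U e by
    have := conj_p h g⁻¹ hy
    rwa [inv_smul_smul, inv_inv] at this)
  calc g * x * g⁻¹ * y = g * (x * (g⁻¹ * y * g)) * g⁻¹ := by group
    _ = y * (g * x * g⁻¹) := by rw [h1]; group

theorem a_disj (h : Cx U) {e c : Ω} {x : G} (hx : x ∈ A U e) (hx' : x ∈ A U c) (hne : e ≠ c) : x = 1 :=
  by_contra fun h1 => hne (a_fix h hx' h1 (p_fix h (a_le e hx)))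

theorem a_of_conj (h : Cx U) {c e : Ω} {x g : G} (hx : x ∈ A U c) (h1 : x ≠ 1)
    (hf : (g * x * g⁻¹) • e = e) : g * x * g⁻¹ ∈ A U e := by
  have hh := a_conj h g hx
  rwa [← a_fix h hh (conj_ne_one h1 g) hf] at hh

theorem finite_omega (h : Cx U) : Finite Ω := Nat.finite_of_card_ne_zero (by have := h.three; omega)

theorem third (h : Cx U) (a b : Ω) : ∃ c : Ω, c ≠ a ∧ c ≠ b := by
  classical
  haveI := finite_omega h
  haveI := Fintype.ofFinite Ω
  have h3 := h.three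
  rw [Nat.card_eq_fintype_card] at h3
  have : ({a, b} : Finset Ω).card < Fintype.card Ω := lt_of_le_of_lt Finset.card_le_two (by omega)
  obtain ⟨c, -, hc⟩ := Finset.exists_mem_notMem_of_card_lt_card (by rwa [← Finset.card_univ] at this)
  simp only [Finset.mem_insert, Finset.mem_singleton, not_or] at hc
  exact ⟨c, hc⟩

theorem exists_map (h : Cx U) (c d : Ω) : ∃ g : G, g • c = d := by
  obtain ⟨e, hec, hed⟩ := third h c d
  obtain ⟨u, -, hu⟩ := h.trans e c d hec.symm hed.symm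
  exact ⟨u, hu⟩

theorem exists_map_pair (h : Cx U) {a b c d : Ω} (hab : a ≠ b) (hcd : c ≠ d) : ∃ g : G, g • a = c ∧ g • b = d := by
  obtain ⟨g, hg⟩ := exists_map h a c
  obtain ⟨u, hu, e⟩ := h.trans c (g • b) d (fun e => hab (smul_left_cancel g (hg.trans e.symm))) hcd.symm
  exact ⟨u * g, by rw [mul_smul, hg, mem_stabilizer_iff.1 (h.le c hu)], by rw [mul_smul, e]⟩

theorem exists_invol (h : Cx U) : ∃ x : G, x ≠ 1 ∧ x * x = 1 := by
  haveI := finite_omega h
  haveI : Nonempty Ω := (Nat.card_pos_iff.1 (show 0 < Nat.card Ω by have := h.three; omega)).1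
  obtain ⟨b, hb, -⟩ := third h (Classical.arbitrary Ω) (Classical.arbitrary Ω)
  obtain ⟨g, h1, h2⟩ := exists_map_pair h hb hb.symm
  have heven : ¬ Odd (orderOf g) := fun ho => by
    obtain ⟨k, hk⟩ := ho
    have hsq : ∀ n : ℕ, (g ^ (2 * n)) • b = b := fun n => by
      induction n with
      | zero => rw [mul_zero, pow_zero, one_smul]
      | succ n ih => rw [mul_add, pow_add, mul_smul, mul_one, pow_two, mul_smul, h1, h2, ih]
    have h3 : g • b = b := by
      have := hsq (k + 1)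
      rw [show 2 * (k + 1) = orderOf g + 1 by omega, pow_succ, pow_orderOf_eq_one, one_mul] at this
      exact this
    rw [h1] at h3
    exact hb h3.symm
  haveI : Fact (Nat.Prime 2) := ⟨Nat.prime_two⟩
  obtain ⟨x, hx⟩ := exists_prime_orderOf_dvd_card' (G := G) 2
    ((Nat.not_odd_iff_even.1 heven).two_dvd.trans (orderOf_dvd_natCard g))
  exact ⟨x, fun e => by rw [e, orderOf_one] at hx; exact absurd hx (by norm_num),
    by rw [← pow_two]; exact orderOf_dvd_iff_pow_eq_one.1 hx.dvd⟩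

theorem exists_fixed (h : Cx U) {x : G} (hx : x * x = 1) : ∃ e : Ω, x • e = e := by
  classical
  haveI := finite_omega h
  haveI := Fintype.ofFinite Ω
  have ho := h.odd_omega
  rw [Nat.card_eq_fintype_card] at ho
  let σ : Equiv.Perm Ω := MulAction.toPerm x
  have hσ : σ ^ 2 ^ 1 = 1 := by
    ext d
    show x • (x • d) = d
    rw [smul_smul, hx, one_smul]
  haveI : Fact (Nat.Prime 2) := ⟨Nat.prime_two⟩
  obtain ⟨e, he⟩ := Equiv.Perm.exists_fixed_point_of_prime (p := 2) (n := 1)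
    (Nat.two_dvd_ne_zero.2 (Nat.odd_iff.1 ho)) hσ
  exact ⟨e, he⟩

theorem exists_a (h : Cx U) (e : Ω) : ∃ z ∈ A U e, z ≠ 1 := by
  haveI : Fact (Nat.Prime 2) := ⟨Nat.prime_two⟩
  obtain ⟨x, hx1, hx⟩ := exists_invol h
  obtain ⟨e₀, he₀⟩ := exists_fixed h hx
  obtain ⟨g, rfl⟩ := exists_map h e₀ e
  have hy := conj_p h g (mem_p h he₀ (isTwo_of_sq hx))
  haveI : Nontrivial (P U (g • e₀)) := ⟨⟨⟨_, hy⟩, 1, fun e => conj_ne_one hx1 g (congrArg Subtype.val e)⟩⟩
  haveI := (isPGroup_p h (g • e₀)).center_nontrivial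
  obtain ⟨k, hk⟩ := IsPGroup.iff_card.1 ((isPGroup_p h (g • e₀)).to_subgroup (Subgroup.center _))
  have h1 : 1 < Nat.card (Subgroup.center (P U (g • e₀))) := Finite.one_lt_card
  obtain ⟨c, hc⟩ := exists_prime_orderOf_dvd_card' (G := Subgroup.center (P U (g • e₀))) 2
    (hk ▸ dvd_pow_self 2 (by rintro rfl; simp [hk] at h1))
  refine ⟨_, ⟨(c : P U (g • e₀)).2, ?_, fun y hy => congrArg Subtype.val ((Subgroup.mem_center_iff.1 c.2 ⟨y, hy⟩).symm)⟩,
    fun e => ?_⟩
  · rw [← pow_two]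
    exact congrArg Subtype.val (congrArg Subtype.val (orderOf_dvd_iff_pow_eq_one.1 hc.dvd))
  · rw [show c = 1 from Subtype.ext (Subtype.ext e), orderOf_one] at hc
    exact absurd hc (by norm_num)

theorem exists_a_ne [IsSimpleGroup G] (h : Cx U) (e : Ω) {z : G} (hz : z ∈ A U e) (hz1 : z ≠ 1) :
    ∃ z' ∈ A U e, z' ≠ 1 ∧ z' ≠ z := by
  by_contra! hno
  haveI : Fact (Nat.Prime 2) := ⟨Nat.prime_two⟩
  obtain ⟨S, hS⟩ := (isPGroup_p h e).exists_le_sylow
  have hnc : ∃ x y : G, x * y ≠ y * x := by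
    by_contra! hcomm
    obtain ⟨c, hc, -⟩ := third h e e
    obtain ⟨g, hg⟩ := exists_map h e c
    exact hc (hg.symm.trans (a_cent h hz hz1 (hcomm g z)))
  refine not_unique_fusion hnc S (hS (a_le e hz)) (orderOf_eq_prime (by rw [pow_two, a_sq hz]) hz1) fun g hg => ?_
  have hconj := a_conj h g hz
  have hge : g • e = e := by
    obtain ⟨d, hd⟩ : ∃ d : Ω, ∀ y ∈ (S : Subgroup G), y • d = d := by
      haveI := finite_omega h
      have hp : IsPGroup 2 (S : Subgroup G) := S.isPGroup'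
      obtain ⟨d, hd⟩ := hp.nonempty_fixed_point_of_prime_not_dvd_card (α := Ω)
        (Nat.two_dvd_ne_zero.2 (Nat.odd_iff.1 h.odd_omega))
      exact ⟨d, fun y hy => hd ⟨y, hy⟩⟩
    exact (a_fix h hconj (conj_ne_one hz1 g) (hd _ hg)).symm.trans (a_fix h hz hz1 (hd z (hS (a_le e hz))))
  rw [hge] at hconj
  exact hno _ hconj (conj_ne_one hz1 g)

theorem odd_prod (h : Cx U) {c e : Ω} (hne : c ≠ e) {u v : G} (hu : u ∈ A U c) (hu1 : u ≠ 1) (hv : v ∈ A U e)
    (hv1 : v ≠ 1) : Odd (orderOf (u * v)) := by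
  by_contra hev
  obtain ⟨r, hr⟩ := (Nat.not_odd_iff_even.1 hev).two_dvd
  have hpos := orderOf_pos (u * v)
  have huu := a_sq hu
  have hvv := a_sq hv
  obtain ⟨w, hw⟩ : ∃ w, w = (u * v) ^ r := ⟨_, rfl⟩
  have hww : w * w = 1 := by rw [hw, ← pow_add, ← two_mul, ← hr, pow_orderOf_eq_one]
  have hw1 : w ≠ 1 := fun e => by
    have := Nat.le_of_dvd (by omega) (orderOf_dvd_of_pow_eq_one (hw.symm.trans e))
    omega
  have hconj : ∀ n : ℕ, u * (u * v) ^ n * u⁻¹ = ((u * v) ^ n)⁻¹ := fun n => by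
    rw [← conj_pow, ← inv_pow, mul_inv_rev, inv_of_sq huu, inv_of_sq hvv, ← mul_assoc, huu, one_mul]
  have huw : w * u = u * w := by
    have h1 := hconj r
    rw [← hw, inv_of_sq hww, mul_inv_eq_iff_eq_mul] at h1
    exact h1.symm
  have hpow : ∀ n : ℕ, (u * v) ^ n * u * ((u * v) ^ n)⁻¹ = (u * v) ^ (n + n) * u := fun n => by
    rw [pow_add, ← hconj n, inv_of_sq huu]
    calc (u * v) ^ n * u * (u * (u * v) ^ n * u) = (u * v) ^ n * (u * u) * (u * v) ^ n * u := by group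
      _ = _ := by rw [huu, mul_one]
  have hvw : w * v = v * w := by
    have h1 : w * (u * v) = (u * v) * w := by rw [hw, ← pow_succ, ← pow_succ']
    calc w * v = u * (u * (w * v)) := by rw [← mul_assoc u u, huu, one_mul]
      _ = u * (w * (u * v)) := by rw [← mul_assoc u w v, ← huw, mul_assoc]
      _ = v * w := by rw [h1, ← mul_assoc, ← mul_assoc, huu, one_mul]
  have hwc : w • c = c := a_cent h hu hu1 huw
  have hwe : w • e = e := a_cent h hv hv1 hvw
  rcases Nat.even_or_odd r with ⟨s, hs⟩ | ⟨s, hs⟩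
  · have hx := hpow s
    rw [← hs, ← hw] at hx
    have hm := a_of_conj h hu hu1 (g := (u * v) ^ s) (e := c) (by rw [hx, mul_smul, p_fix h (a_le c hu), hwc])
    rw [hx] at hm
    have hwA : w ∈ A U c := by
      rw [show w = w * u * u⁻¹ by group]
      exact mul_mem hm (inv_mem hu)
    exact hne (a_fix h hwA hw1 hwe).symm
  · have hx := hpow s
    have h2 : (u * v) ^ (s + s) * u = w * v := by
      have h3 : (u * v) ^ (s + s) * (u * v) = w := by rw [← pow_succ, hw]; congr 1; omega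
      rw [← h3, mul_assoc, mul_assoc u v v, hvv, mul_one]
    rw [h2] at hx
    have hm := a_of_conj h hu hu1 (g := (u * v) ^ s) (e := e) (by rw [hx, mul_smul, p_fix h (a_le e hv), hwe])
    rw [hx] at hm
    have hwA : w ∈ A U e := by
      rw [show w = w * v * v⁻¹ by group]
      exact mul_mem hm (inv_mem hv)
    exact hne (a_fix h hwA hw1 hwc)

/-- Two central involutions are conjugate by an element commuting with what commutes with both. -/
theorem swap_conj (h : Cx U) {c e : Ω} (hne : c ≠ e) {u v : G} (hu : u ∈ A U c) (hu1 : u ≠ 1) (hv : v ∈ A U e)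
    (hv1 : v ≠ 1) : ∃ g : G, g * u * g⁻¹ = v ∧ g • c = e ∧ ∀ y : G, y * u = u * y → y * v = v * y → y * g = g * y := by
  obtain ⟨s, hs⟩ := odd_prod h hne hu hu1 hv hv1
  have h1 := half_pow (a_sq hu) (a_sq hv) (s := s) (by rw [← hs, pow_orderOf_eq_one])
  refine ⟨_, h1, ?_, fun y hy1 hy2 => commute_pow_prod hy1 hy2 s⟩
  have h2 := a_conj h ((u * v) ^ s) hu
  rw [h1] at h2
  exact by_contra fun hc => hv1 (a_disj h h2 hv hc)

/-- Two central involutions are interchanged by a third. -/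
theorem swap_invol (h : Cx U) {c e : Ω} (hne : c ≠ e) {u v : G} (hu : u ∈ A U c) (hu1 : u ≠ 1) (hv : v ∈ A U e)
    (hv1 : v ≠ 1) : ∃ (f : Ω) (t : G), f ≠ c ∧ f ≠ e ∧ t ∈ A U f ∧ t ≠ 1 ∧ t * u * t⁻¹ = v ∧ t • c = e ∧ t • e = c := by
  obtain ⟨s, hs⟩ := odd_prod h hne hu hu1 hv hv1
  have hp : (u * v) ^ (2 * s + 1) = 1 := by rw [← hs, pow_orderOf_eq_one]
  have huu := a_sq hu
  have hvv := a_sq hv
  have h1 := half_pow huu hvv hp
  obtain ⟨g, hg⟩ : ∃ g, g = (u * v) ^ (s * (s + 1)) := ⟨_, rfl⟩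
  have hconj : ∀ n : ℕ, (u * v) ^ n * u * ((u * v) ^ n)⁻¹ = (u * v) ^ (n + n) * u := fun n => by
    have h2 : u * (u * v) ^ n * u⁻¹ = ((u * v) ^ n)⁻¹ := by
      rw [← conj_pow, ← inv_pow, mul_inv_rev, inv_of_sq huu, inv_of_sq hvv, ← mul_assoc, huu, one_mul]
    rw [pow_add, ← h2, inv_of_sq huu]
    calc (u * v) ^ n * u * (u * (u * v) ^ n * u) = (u * v) ^ n * (u * u) * (u * v) ^ n * u := by group
      _ = _ := by rw [huu, mul_one]
  obtain ⟨t, ht⟩ : ∃ t, t = g * u * g⁻¹ := ⟨_, rfl⟩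
  have ht' : t = (u * v) ^ s * u := by
    rw [ht, hg, hconj, show s * (s + 1) + s * (s + 1) = (2 * s + 1) * s + s by ring, pow_add, pow_mul, hp, one_pow,
      one_mul]
  have htA : t ∈ A U (g • c) := ht ▸ a_conj h g hu
  have ht1 : t ≠ 1 := ht ▸ conj_ne_one hu1 g
  have htu : t * u * t⁻¹ = v := by
    rw [ht', mul_inv_rev, inv_of_sq huu]
    calc (u * v) ^ s * u * u * (u * ((u * v) ^ s)⁻¹) = (u * v) ^ s * (u * u) * u * ((u * v) ^ s)⁻¹ := by group
      _ = v := by rw [huu, mul_one, h1]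
  have htc : t • c = e := by
    have h2 := a_conj h t hu
    rw [htu] at h2
    exact by_contra fun hc => hv1 (a_disj h h2 hv hc)
  have hte : t • e = c := by rw [← htc, smul_smul, a_sq htA, one_smul]
  have hfix := p_fix h (a_le _ htA)
  refine ⟨g • c, t, fun hf => hne ?_, fun hf => hne ?_, htA, ht1, htu, htc, hte⟩
  · rw [hf, htc] at hfix
    exact hfix.symm
  · rw [hf, hte] at hfix
    exact hfix

theorem mem_x (h : Cx U) {e c : Ω} {y : G} : y ∈ X U e c ↔ IsTwo y ∧ y • e = e ∧ y • c = c :=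
  ⟨fun hy => ⟨p_two h hy.1, p_fix h hy.1, mem_stabilizer_iff.1 hy.2⟩,
    fun hy => ⟨mem_p h hy.2.1 hy.1, mem_stabilizer_iff.2 hy.2.2⟩⟩

theorem x_symm (h : Cx U) (e c : Ω) : X U e c = X U c e := by
  ext y
  rw [mem_x h, mem_x h, and_comm (a := y • e = e)]

theorem card_x (h : Cx U) {a b c d : Ω} (hab : a ≠ b) (hcd : c ≠ d) : Nat.card (X U a b) = Nat.card (X U c d) := by
  suffices hle : ∀ {a b c d : Ω}, a ≠ b → c ≠ d → Nat.card (X U a b) ≤ Nat.card (X U c d) from
    le_antisymm (hle hab hcd) (hle hcd hab)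
  intro a b c d hab hcd
  obtain ⟨g, rfl, rfl⟩ := exists_map_pair h hab hcd
  refine Nat.card_le_card_of_injective (fun y : X U a b => (⟨g * y * g⁻¹, (mem_x h).2 ?_⟩ : X U (g • a) (g • b)))
    fun y z e => Subtype.ext (mul_left_cancel (mul_right_cancel (congrArg Subtype.val e)))
  obtain ⟨h1, h2, h3⟩ := (mem_x h).1 y.2
  exact ⟨isTwo_conj h1 g, by rw [mul_smul, inv_smul_smul, mul_smul, h2], by rw [mul_smul, inv_smul_smul, mul_smul, h3]⟩

theorem x_triangle (h : Cx U) {e c : Ω} (hne : c ≠ e) {a : G} (ha : a ∈ A U e) (ha1 : a ≠ 1) :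
    X U e c = X U c (a • c) := by
  refine Subgroup.eq_of_le_of_card_ge (fun y hy => ?_) (card_x h hne.symm fun hc => hne (a_fix h ha ha1 hc.symm)).ge
  obtain ⟨h1, -, h3⟩ := (mem_x h).1 hy
  exact (mem_x h).2 ⟨h1, h3, by rw [smul_smul, ← a_comm ha hy.1, mul_smul, h3]⟩

theorem IsL.na (h : Cx U) {x : G} (hx : IsL Ω x) : NA U x := by
  obtain ⟨h1, h2, e, c, hne, he, hc⟩ := hx
  exact ⟨h2, fun f hf => hne ((a_fix h hf h1 he).trans (a_fix h hf h1 hc).symm)⟩

theorem NA.ne_one (h : Cx U) {x : G} (hx : NA U x) : x ≠ 1 := by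
  haveI := finite_omega h
  haveI : Nonempty Ω := (Nat.card_pos_iff.1 (show 0 < Nat.card Ω by have := h.three; omega)).1
  exact fun e => hx.2 (Classical.arbitrary Ω) (e ▸ one_mem _)

/-- An involution not among the central ones, times a suitable central one, fixes a given point. -/
theorem decomp (h : Cx U) {x : G} (hx : NA U x) {c : Ω} (hxc : x • c ≠ c) {u : G} (hu : u ∈ A U c) (hu1 : u ≠ 1) :
    ∃ (e : Ω) (a : G), a ∈ A U e ∧ a ≠ 1 ∧ x • e = e ∧ (x * a) • c = c ∧ IsConj x (u * (x * a)) := by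
  have huu := a_sq hu
  have hxx := hx.1
  have hu' : x * u * x⁻¹ ∈ A U (x • c) := a_conj h x hu
  obtain ⟨s, hs⟩ := odd_prod h hxc.symm hu hu1 hu' (conj_ne_one hu1 x)
  obtain ⟨w, hw⟩ : ∃ w, w = (u * x) ^ (2 * s + 1) := ⟨_, rfl⟩
  have hsq : (u * x) * (u * x) = u * (x * u * x⁻¹) := by rw [inv_of_sq hxx]; group
  have hww : w * w = 1 := by
    rw [hw, ← (Commute.refl _).mul_pow, hsq, ← hs, pow_orderOf_eq_one]
  have huconj : ∀ n : ℕ, u * (u * x) ^ n * u⁻¹ = ((u * x) ^ n)⁻¹ := fun n => by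
    rw [← conj_pow, ← inv_pow, mul_inv_rev, inv_of_sq huu, inv_of_sq hxx, ← mul_assoc, huu, one_mul]
  have hwu : w * u = u * w := by
    have h1 := huconj (2 * s + 1)
    rw [← hw, inv_of_sq hww, mul_inv_eq_iff_eq_mul] at h1
    exact h1.symm
  have hwx : w * x = x * w := by
    have h1 : w * (u * x) = (u * x) * w := by rw [hw, ← pow_succ, ← pow_succ']
    calc w * x = u * (u * (w * x)) := by rw [← mul_assoc u u, huu, one_mul]
      _ = u * (w * (u * x)) := by rw [← mul_assoc u w x, ← hwu, mul_assoc]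
      _ = x * w := by rw [h1, ← mul_assoc, ← mul_assoc, huu, one_mul]
  obtain ⟨g, hg⟩ : ∃ g, g = (u * x) ^ s := ⟨_, rfl⟩
  have hgu : g * u * g⁻¹ = w * x := by
    have h1 : (u * x) ^ (s + s) * (u * x) = w := by rw [hw, ← pow_succ, two_mul]
    have h2 : u * g⁻¹ = g * u := by
      rw [hg, ← huconj s, inv_of_sq huu, ← mul_assoc, ← mul_assoc, huu, one_mul]
    rw [mul_assoc, h2, ← mul_assoc, hg, ← pow_add, ← h1, mul_assoc, mul_assoc u x x, hxx, mul_one]
  have hA : w * x ∈ A U (g • c) := hgu ▸ a_conj h g hu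
  have hA1 : w * x ≠ 1 := hgu ▸ conj_ne_one hu1 g
  refine ⟨g • c, x * w, hwx ▸ hA, hwx ▸ hA1, a_cent h hA hA1 ?_, ?_, IsConj.symm (isConj_iff.2 ⟨g, ?_⟩)⟩
  · rw [← mul_assoc, ← hwx]
  · rw [← mul_assoc, hxx, one_mul]
    exact a_cent h hu hu1 hwu
  · rw [← mul_assoc x x, hxx, one_mul]
    have hgw : g * w = w * g := by rw [hg, hw, ← pow_add, ← pow_add, add_comm]
    calc g * (u * w) * g⁻¹ = g * u * g⁻¹ * (g * w * g⁻¹) := by group
      _ = w * x * w := by rw [hgu, hgw, mul_inv_cancel_right]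
      _ = x := by rw [hwx, mul_assoc, hww, mul_one]

theorem decomp_unique (h : Cx U) {x : G} (hxx : x * x = 1) {c e e' : Ω} {a a' : G} (ha : a ∈ A U e) (ha1 : a ≠ 1)
    (ha' : a' ∈ A U e') (ha1' : a' ≠ 1) (he : x • e = e) (he' : x • e' = e') (hxc : x • c ≠ c)
    (hc : (x * a) • c = c) (hc' : (x * a') • c = c) : e = e' ∧ a = a' := by
  have hxP : ∀ {f : Ω}, x • f = f → x ∈ P U f := fun hf => mem_p h hf (isTwo_of_sq hxx)
  have hac : ∀ {b : G}, (x * b) • c = c → b • c = x • c := fun {b} hb => by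
    have := congrArg (x • ·) hb
    simp only [smul_smul, ← mul_assoc, hxx, one_mul] at this
    exact this
  have hwX : ∀ {f : Ω} {b : G}, x • f = f → b ∈ A U f → b ≠ 1 → (x * b) • c = c →
      x * b ∈ X U c (x • c) := fun {f b} hf hb hb1 hbc => by
    have hcf : c ≠ f := fun e => hxc (e ▸ hf)
    rw [← hac hbc, ← x_triangle h hcf hb hb1]
    exact ⟨mul_mem (hxP hf) (a_le f hb), mem_stabilizer_iff.2 hbc⟩
  have hce : c ≠ e := fun e0 => hxc (e0 ▸ he)
  have hX := x_triangle h hce ha ha1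
  rw [hac hc] at hX
  have hw' : x * a' ∈ X U e c := hX.symm ▸ hwX he' ha' ha1' hc'
  have hee : a' • e = e := by
    have h1 := p_fix h hw'.1
    rw [mul_smul] at h1
    rw [← smul_left_cancel_iff x, h1, he]
  have hee' : e = e' := a_fix h ha' ha1' hee
  subst hee'
  refine ⟨rfl, by_contra fun hne => hce ?_⟩
  have h2 : (a * a') • c = c := by
    have h3 : a * a' = (x * a) * (x * a') := by
      rw [← mul_assoc, mul_assoc x a x, a_comm ha (hxP he), ← mul_assoc, hxx, one_mul]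
    rw [h3, mul_smul, hc', hc]
  refine a_fix h (mul_mem ha ha') (fun e1 => hne ?_) h2
  rw [← inv_of_sq (a_sq ha')]
  exact mul_eq_one_iff_eq_inv.1 e1

/-- The coset of a central involution at a fixed point: conjugacy with the elements at another point. -/
theorem conj_coset (h : Cx U) {x : G} (hx : NA U x) {e c : Ω} (he : x • e = e) {a : G} (ha : a ∈ A U e)
    (ha1 : a ≠ 1) (hne : c ≠ e) (hc : (x * a) • c = c) {u : G} (hu : u ∈ A U c) (hu1 : u ≠ 1) :
    IsConj x (u * (x * a)) := by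
  have hxc : x • c ≠ c := fun h1 => hne (a_fix h ha ha1 (by
    rw [← smul_left_cancel_iff x, smul_smul, hc, h1]))
  obtain ⟨e', a', ha', ha1', he', hc', hconj⟩ := decomp h hx hxc hu hu1
  obtain ⟨-, rfl⟩ := decomp_unique h hx.1 ha ha1 ha' ha1' he he' hxc hc hc'
  exact hconj

theorem na_mul (h : Cx U) {y : G} (hy : IsL Ω y) {e : Ω} (he : y • e = e) {a : G} (ha : a ∈ A U e) :
    NA U (y * a) ∧ (y * a) • e = e := by
  have hyP := mem_p h he (isTwo_of_sq hy.2.1)
  have hf : (y * a) • e = e := p_fix h (mul_mem hyP (a_le e ha))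
  refine ⟨⟨?_, fun f hf' => ?_⟩, hf⟩
  · rw [mul_assoc, ← mul_assoc a y, a_comm ha hyP, mul_assoc y a a, a_sq ha, mul_one, hy.2.1]
  · by_cases h1 : y * a = 1
    · have h2 : y ∈ A U e := by rw [mul_eq_one_iff_eq_inv.1 h1]; exact inv_mem ha
      exact (hy.na h).2 e h2
    · rw [← a_fix h hf' h1 hf] at hf'
      have h2 : y ∈ A U e := by
        rw [show y = y * a * a⁻¹ by group]
        exact mul_mem hf' (inv_mem ha)
      exact (hy.na h).2 e h2

theorem coset_isConj (h : Cx U) {y : G} (hy : IsL Ω y) {e c : Ω} (he : y • e = e) (hc : y • c = c) (hne : c ≠ e)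
    {a a' : G} (ha : a ∈ A U e) (ha1 : a ≠ 1) (ha' : a' ∈ A U e) (ha1' : a' ≠ 1) : IsConj (y * a) (y * a') := by
  obtain ⟨u, hu, hu1⟩ := exists_a h c
  have key : ∀ b ∈ A U e, b ≠ 1 → IsConj (y * b) (u * y) := fun b hb hb1 => by
    obtain ⟨hna, hf⟩ := na_mul h hy he hb
    have h1 : y * b * b = y := by rw [mul_assoc, a_sq hb, mul_one]
    have := conj_coset h hna hf hb hb1 hne (by rw [h1]; exact hc) hu hu1
    rwa [h1] at this
  exact (key a ha ha1).trans (key a' ha' ha1').symm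

theorem other_fix {x : G} (hx : IsL Ω x) (e : Ω) : ∃ c : Ω, c ≠ e ∧ x • c = c := by
  obtain ⟨-, -, e₁, c₁, hne, he₁, hc₁⟩ := hx
  rcases eq_or_ne e₁ e with rfl | h'
  · exact ⟨c₁, hne.symm, hc₁⟩
  · exact ⟨e₁, h', he₁⟩

/-- Transitivity of the centraliser on the fixed points. -/
theorem fix_trans (h : Cx U) {y : G} (hy : IsTwo y) {e e' : Ω} (he : y • e = e) (he' : y • e' = e') :
    ∃ g : G, g • e = e' ∧ y * g = g * y := by
  rcases eq_or_ne e e' with rfl | hne
  · exact ⟨1, one_smul _ _, by rw [mul_one, one_mul]⟩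
  · obtain ⟨u, hu, hu1⟩ := exists_a h e
    obtain ⟨v, hv, hv1⟩ := exists_a h e'
    obtain ⟨g, -, hge, hgc⟩ := swap_conj h hne hu hu1 hv hv1
    exact ⟨g, hge, hgc y (a_comm hu (mem_p h he hy)).symm (a_comm hv (mem_p h he' hy)).symm⟩

theorem isL_mul (h : Cx U) {y : G} (hy : IsL Ω y) {e : Ω} (he : y • e = e) {a : G} (ha : a ∈ A U e) :
    IsL Ω (y * a) := by
  rcases eq_or_ne a 1 with rfl | ha1
  · rwa [mul_one]
  obtain ⟨c', hc'⟩ : ∃ c' : Ω, y • c' ≠ c' := by
    by_contra! hall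
    exact hy.1 (eq_of_smul_eq_smul (α := Ω) fun d => by rw [hall d, one_smul])
  obtain ⟨u, hu, hu1⟩ := exists_a h c'
  obtain ⟨e', a', ha', ha1', he', hc'', -⟩ := decomp h (hy.na h) hc' hu hu1
  obtain ⟨hna, hf'⟩ := na_mul h hy he' ha'
  have hL : IsL Ω (y * a') := ⟨hna.ne_one h, hna.1, e', c', fun e0 => hc' (e0 ▸ he'), hf', hc''⟩
  obtain ⟨g, hge, hgy⟩ := fix_trans h (isTwo_of_sq hy.2.1) he' he
  have hA : g * a' * g⁻¹ ∈ A U e := hge ▸ a_conj h g ha'
  have hconj : g * (y * a') * g⁻¹ = y * (g * a' * g⁻¹) := by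
    rw [← mul_assoc, ← hgy]; group
  have hL' := hL.conj g
  rw [hconj] at hL'
  obtain ⟨c, hc, hyc⟩ := other_fix hy e
  exact hL'.of_isConj (coset_isConj h hy he hyc hc hA (conj_ne_one ha1' g) ha ha1)

theorem isConj_mul [IsSimpleGroup G] (h : Cx U) {y : G} (hy : IsL Ω y) {e : Ω} (he : y • e = e) {a : G}
    (ha : a ∈ A U e) : IsConj y (y * a) := by
  rcases eq_or_ne a 1 with rfl | ha1
  · rw [mul_one]
  obtain ⟨b, hb, hb1, hba⟩ := exists_a_ne h e ha ha1
  have hL := isL_mul h hy he hb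
  have hf := (na_mul h hy he hb).2
  obtain ⟨c, hc, hyc⟩ := other_fix hL e
  have hba1 : b * a ≠ 1 := fun e0 => hba (by rw [mul_eq_one_iff_eq_inv.1 e0, inv_of_sq (a_sq ha)])
  have := coset_isConj h hL hf hyc hc hb hb1 (mul_mem hb ha) hba1
  rwa [mul_assoc, a_sq hb, mul_one, mul_assoc, ← mul_assoc b b, a_sq hb, one_mul] at this

end Points

end Cfsg.Agent.Transfer.RankOneCor
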