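import Cfsg.Agent.Lib.Transfer.RankOneCor.Inter

/-!
The elements of odd order of a point's subgroup fixing a second point lie in the subgroup of that point too:
counting the fixed points of such an element among the points whose subgroup contains the common part.
-/

set_option autoImplicit false
set_option linter.unusedSectionVars false
set_option linter.style.haveILetI false

namespace Cfsg.Agent.Transfer.RankOneCor

open MulAction

universe u v

theorem card_ne_succ {α : Type v} [Finite α] (p : α → Prop) {e : α} (he : p e) :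
    Nat.card {c // p c} = Nat.card {c // p c ∧ c ≠ e} + 1 := by
  classical
  haveI := Fintype.ofFinite α
  simp only [Nat.card_eq_fintype_card, Fintype.card_subtype]
  rw [show (Finset.univ.filter fun c => p c) = insert e (Finset.univ.filter fun c => p c ∧ c ≠ e) by
    ext c
    simp only [Finset.mem_filter, Finset.mem_univ, true_and, Finset.mem_insert]
    refine ⟨fun hc => (eq_or_ne c e).imp_right fun hne => ⟨hc, hne⟩, ?_⟩
    rintro (rfl | ⟨hc, -⟩)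
    · exact he
    · exact hc]
  exact Finset.card_insert_of_notMem (by simp)

theorem exists_fixed_of_odd {α : Type v} [Finite α] (f : α → α) (hf : ∀ c, f (f c) = c) (ho : Odd (Nat.card α)) :
    ∃ c, f c = c := by
  classical
  haveI := Fintype.ofFinite α
  rw [Nat.card_eq_fintype_card] at ho
  haveI : Fact (Nat.Prime 2) := ⟨Nat.prime_two⟩
  obtain ⟨c, hc⟩ := Equiv.Perm.exists_fixed_point_of_prime (p := 2) (n := 1)
    (Nat.two_dvd_ne_zero.2 (Nat.odd_iff.1 ho)) (σ := (⟨f, f, hf, hf⟩ : Equiv.Perm α)) (Equiv.ext fun c => by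
      rw [pow_one, pow_two]; exact hf c)
  exact ⟨c, hc⟩

variable {G : Type u} {Ω : Type v} [Group G] [MulAction G Ω] {U : Ω → Subgroup G}

theorem eq_one_two_odd {x : G} (h2 : IsTwo x) (ho : Odd (orderOf x)) : x = 1 := by
  have h := orderOf_coprime h2 ho
  exact orderOf_eq_one_iff.1 ((Nat.coprime_self _).1 h)

variable [Finite G] [FaithfulSMul G Ω] [IsSimpleGroup G]

/-- The two-part of a point's subgroup is semiregular off the point. -/
theorem p_semireg (h : Cx U) {e c : Ω} (hne : c ≠ e) {x : G} (hx : x ∈ P U e) (hc : x • c = c) : x = 1 := by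
  have : x ∈ X U e c := ⟨hx, mem_stabilizer_iff.2 hc⟩
  rwa [x_bot h hne, Subgroup.mem_bot] at this

theorem invol_mem_a (h : Cx U) {w : G} (hw : w * w = 1) {e : Ω} (he : w • e = e) : w ∈ A U e := by
  rcases eq_or_ne w 1 with rfl | hw1
  · exact one_mem _
  by_cases hA : ∃ f, w ∈ A U f
  · obtain ⟨f, hf⟩ := hA
    rwa [a_fix h hf hw1 he]
  exfalso
  have hna : NA U w := ⟨hw, fun f hf => hA ⟨f, hf⟩⟩
  obtain ⟨c, hc⟩ : ∃ c : Ω, w • c ≠ c := by
    by_contra! hall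
    exact hw1 (eq_of_smul_eq_smul (α := Ω) fun d => by rw [hall d, one_smul])
  obtain ⟨u, hu, hu1⟩ := exists_a h c
  obtain ⟨e', a', ha', -, he', hc', -⟩ := decomp h hna hc hu hu1
  have h1 := p_semireg h (show c ≠ e' from fun e0 => hc (e0 ▸ he'))
    (mul_mem (mem_p h he' (isTwo_of_sq hw)) (a_le e' ha')) hc'
  exact hna.2 e' (by rw [mul_eq_one_iff_eq_inv.1 h1]; exact inv_mem ha')

theorem odd_two_point (h : Cx U) {a b : Ω} (hab : b ≠ a) {x : G} (ha : x • a = a) (hb : x • b = b) :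
    Odd (orderOf x) := by
  haveI : Fact (Nat.Prime 2) := ⟨Nat.prime_two⟩
  by_contra hev
  obtain ⟨r, hr⟩ := (Nat.not_odd_iff_even.1 hev).two_dvd
  have hpos := orderOf_pos x
  have hfix : ∀ {c : Ω}, x • c = c → (x ^ r) • c = c := fun hc =>
    mem_stabilizer_iff.1 (pow_mem (mem_stabilizer_iff.2 hc) r)
  have h1 := p_semireg h hab (mem_p h (hfix ha) (isTwo_of_sq (x := x ^ r) (by
    rw [← pow_add, ← two_mul, ← hr, pow_orderOf_eq_one]))) (hfix hb)
  have := Nat.le_of_dvd (by omega) (orderOf_dvd_of_pow_eq_one h1)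
  omega

theorem exists_swap (h : Cx U) {a b : Ω} (hab : a ≠ b) :
    ∃ (f : Ω) (t : G), t ∈ A U f ∧ t ≠ 1 ∧ t • a = b ∧ t • b = a := by
  obtain ⟨u, hu, hu1⟩ := exists_a h a
  obtain ⟨v, hv, hv1⟩ := exists_a h b
  obtain ⟨f, t, -, -, ht, ht1, -, hta, htb⟩ := swap_invol h hab hu hu1 hv hv1
  exact ⟨f, t, ht, ht1, hta, htb⟩

/-- An element of odd order inverted by an involution commutes with no central involution. -/
theorem real_free (h : Cx U) {y v : G} {e₀ : Ω} (hv : v ∈ A U e₀) (hv1 : v ≠ 1) (hy : Odd (orderOf y))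
    (hinv : v * y * v⁻¹ = y⁻¹) {f : Ω} {w : G} (hw : w ∈ A U f) (hw1 : w ≠ 1) (hcom : y * w = w * y) : y = 1 := by
  classical
  haveI := finite_omega h
  have hyf : y • f = f := a_cent h hw hw1 hcom
  have heven : ¬ Odd (Nat.card {c : Ω // y • c = c ∧ c ≠ f}) := fun ho => by
    obtain ⟨⟨c, hc, hcf⟩, hfix⟩ := exists_fixed_of_odd
      (fun c : {c : Ω // y • c = c ∧ c ≠ f} => (⟨w • c.1, by rw [smul_smul, hcom, mul_smul, c.2.1],
        fun e0 => c.2.2 (smul_left_cancel w (e0.trans (p_fix h (a_le f hw)).symm))⟩ :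
        {c : Ω // y • c = c ∧ c ≠ f}))
      (fun c => Subtype.ext (by show w • w • c.1 = c.1; rw [smul_smul, a_sq hw, one_smul])) ho
    exact hcf (a_fix h hw hw1 (congrArg Subtype.val hfix))
  have hodd : Odd (Nat.card {c : Ω // y • c = c}) := by
    rw [card_ne_succ (fun c : Ω => y • c = c) hyf]
    exact (Nat.not_odd_iff_even.1 heven).add_one
  have hvy : y * v = v * y⁻¹ := by
    rw [← hinv, inv_of_sq (a_sq hv), ← mul_assoc, ← mul_assoc, a_sq hv, one_mul]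
  obtain ⟨⟨c, hc⟩, hfix⟩ := exists_fixed_of_odd
    (fun c : {c : Ω // y • c = c} => (⟨v • c.1, by
      rw [smul_smul, hvy, mul_smul, inv_smul_eq_iff.2 c.2.symm]⟩ : {c : Ω // y • c = c}))
    (fun c => Subtype.ext (by show v • v • c.1 = c.1; rw [smul_smul, a_sq hv, one_smul])) hodd
  obtain rfl : c = e₀ := a_fix h hv hv1 (congrArg Subtype.val hfix)
  have h2 : v * (y * v * y⁻¹) ∈ A U c := mul_mem hv (a_conj_fix h hc hv)
  rw [hvy, mul_assoc v y⁻¹, ← mul_assoc v v, a_sq hv, one_mul] at h2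
  refine eq_one_two_odd (x := y) ⟨2, ?_⟩ hy
  rw [show y ^ 2 ^ 2 = ((y⁻¹ * y⁻¹) * (y⁻¹ * y⁻¹))⁻¹ by group, a_sq h2, inv_one]

/-- An element outside the common part commutes with no central involution of the other point. -/
theorem free (h : Cx U) {a b : Ω} (hab : b ≠ a) {σ : G} (hσ : σ ∈ U b) (hσa : σ • a = a) (hσC : σ ∉ U a) {z : G}
    (hz : z ∈ A U a) (hz1 : z ≠ 1) : σ * z ≠ z * σ := by
  intro hcom
  obtain ⟨f, t, ht, ht1, hta, htb⟩ := exists_swap h hab.symm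
  have hti := inv_of_sq (a_sq ht)
  have hσb : σ • b = b := mem_stabilizer_iff.1 (h.le b hσ)
  have hsU : t * σ * t⁻¹ ∈ U a := htb ▸ h.conj t b σ hσ
  have hsb : (t * σ * t⁻¹) • b = b := by rw [mul_smul, mul_smul, hti, htb, hσa, hta]
  have hsa : (t * σ * t⁻¹) • a = a := mem_stabilizer_iff.1 (h.le a hsU)
  have hsz : Commute (t * σ * t⁻¹) z := (a_central h hz hsU).symm
  refine hσC ?_
  have hy1 : (t * σ * t⁻¹)⁻¹ * σ = 1 := real_free h ht ht1
    (odd_two_point h hab (by rw [mul_smul, hσa, inv_smul_eq_iff, hsa]) (by rw [mul_smul, hσb, inv_smul_eq_iff, hsb]))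
    (by
      rw [mul_inv_rev (t * σ * t⁻¹)⁻¹ σ, inv_inv, show t * ((t * σ * t⁻¹)⁻¹ * σ) * t⁻¹ =
        (t * t) * σ⁻¹ * (t⁻¹ * σ * t⁻¹) by group, a_sq ht, one_mul, hti]) hz hz1
    (hsz.inv_left.mul_left hcom).eq
  rw [inv_mul_eq_one] at hy1
  rwa [hy1] at hsU

theorem s_le (h : Cx U) {a b : Ω} (hab : b ≠ a) : U a ⊓ stabilizer G b ≤ U b := by
  classical
  intro s hs
  by_contra hsb
  haveI := finite_omega h
  haveI : Fact (Nat.Prime 2) := ⟨Nat.prime_two⟩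
  have hsa : s • a = a := mem_stabilizer_iff.1 (h.le a hs.1)
  have hsb' : s • b = b := mem_stabilizer_iff.1 hs.2
  obtain ⟨C, hC⟩ : ∃ C, C = U a ⊓ U b := ⟨_, rfl⟩
  obtain ⟨S', hS'⟩ : ∃ S', S' = U b ⊓ stabilizer G a := ⟨_, rfl⟩
  have hmC : ∀ {x}, x ∈ C ↔ x ∈ U a ∧ x ∈ U b := fun {x} => by rw [hC, Subgroup.mem_inf]
  have hmS : ∀ {x}, x ∈ S' ↔ x ∈ U b ∧ x • a = a := fun {x} => by
    rw [hS', Subgroup.mem_inf, mem_stabilizer_iff]
  have hbfix : ∀ {g}, g ∈ U b → g • b = b := fun hg => mem_stabilizer_iff.1 (h.le b hg)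
  have hCS : C ≤ S' := fun x hx => hmS.2 ⟨(hmC.1 hx).2, mem_stabilizer_iff.1 (h.le a (hmC.1 hx).1)⟩
  have hnormS : ∀ g ∈ S', ∀ x ∈ C, g * x * g⁻¹ ∈ C := fun g hg x hx => hmC.2
    ⟨by have := h.conj g a x (hmC.1 hx).1; rwa [(hmS.1 hg).2] at this,
      by have := h.conj g b x (hmC.1 hx).2; rwa [hbfix (hmS.1 hg).1] at this⟩
  obtain ⟨z₀, hz₀, hz₀1⟩ := exists_a h a
  have hidx : C.relIndex S' < Nat.card (A U a) := by
    have h1 : Subgroup.centralizer ({z₀} : Set G) ⊓ S' = C := by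
      ext x
      rw [Subgroup.mem_inf, Subgroup.mem_centralizer_iff]
      refine ⟨fun hx => hmC.2 ⟨by_contra fun hxa => free h hab (hmS.1 hx.2).1 (hmS.1 hx.2).2 hxa hz₀ hz₀1
        (hx.1 z₀ rfl).symm, (hmS.1 hx.2).1⟩, fun hx => ⟨fun z hz => ?_, hCS hx⟩⟩
      rw [Set.mem_singleton_iff.1 hz]
      exact a_central h hz₀ (hmC.1 hx).1
    rw [← h1, Subgroup.inf_relIndex_right, ← card_class_eq]
    refine lt_of_le_of_lt (Nat.card_le_card_of_injective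
      (fun y : {y // ∃ g ∈ S', g * z₀ * g⁻¹ = y} => (⟨⟨y.1, ?_⟩, ?_⟩ : {z : A U a // z ≠ 1}))
      fun y y' e0 => Subtype.ext (congrArg (fun z : {z : A U a // z ≠ 1} => ((z.1 : A U a) : G)) e0))
      (Finite.card_subtype_lt (x := 1) (not_not.2 rfl))
    · obtain ⟨g, hg, e0⟩ := y.2
      rw [← e0]
      exact a_conj_fix h (hmS.1 hg).2 hz₀
    · obtain ⟨g, -, e0⟩ := y.2
      exact fun e1 => conj_ne_one hz₀1 g (e0.trans (congrArg Subtype.val e1))
  obtain ⟨T, O, hsp, -⟩ := RankOne.exists_split (h.nilp b)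
  have hOmem : ∀ {g}, g ∈ U b → Odd (orderOf g) → g ∈ O := fun {g} hg ho => by
    obtain ⟨x, hx, y, hy, rfl⟩ := hsp.mul g hg
    have h1 := pow_orderOf_eq_one (x * y)
    rw [(show Commute x y from hsp.comm x hx y hy).mul_pow] at h1
    have h2 := (hsp.mul_inj (pow_mem hx _) (one_mem T) (pow_mem hy _) (one_mem O) (h1.trans (one_mul 1).symm)).1
    rw [eq_one_two_odd (x := x) (isTwo_mem hsp.two hx) (ho.of_dvd_nat (orderOf_dvd_of_pow_eq_one h2)), one_mul]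
    exact hy
  have hOodd : ∀ {g}, g ∈ O → Odd (orderOf g) := fun {g} hg =>
    hsp.odd.of_dvd_nat (Subgroup.orderOf_dvd_natCard O hg)
  let N : Subgroup G := Subgroup.normalizer (C : Set G) ⊓ U b
  have hNC : ∀ {g}, g ∈ N → ∀ {x}, x ∈ C → g * x * g⁻¹ ∈ C := fun {g} hg {x} hx =>
    (Subgroup.mem_normalizer_iff.1 hg.1 x).1 hx
  have hNC' : ∀ {g}, g ∈ N → ∀ {x}, x ∈ C → g⁻¹ * x * g ∈ C := fun {g} hg {x} hx => by
    simpa using hNC (inv_mem hg) hx
  have hS'N : ∀ {g}, g ∈ S' → g ∈ N := fun {g} hg =>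
    ⟨Subgroup.mem_normalizer_fintype (hnormS g hg), (hmS.1 hg).1⟩
  have hreach : ∀ c : Ω, C ≤ U c → c ≠ b → ∃ g ∈ N, g • a = c := by
    intro c hc hcb
    obtain ⟨u, hu, huc⟩ := h.trans b a c hab.symm hcb
    have heq : C = U c ⊓ U b := by
      refine Subgroup.eq_of_le_of_card_ge (le_inf hc fun x hx => (hmC.1 hx).2)
        (Nat.card_le_card_of_injective (fun x : ↥(U c ⊓ U b) => (⟨u⁻¹ * x * u, hmC.2 ⟨?_, ?_⟩⟩ : C))
          fun x y e0 => Subtype.ext (mul_left_cancel (mul_right_cancel (congrArg Subtype.val e0))))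
      · have := h.conj u⁻¹ c x x.2.1
        rwa [show u⁻¹ • c = a by rw [← huc, inv_smul_smul], inv_inv] at this
      · exact mul_mem (mul_mem (inv_mem hu) x.2.2) hu
    refine ⟨u, ⟨Subgroup.mem_normalizer_fintype fun x hx => ?_, hu⟩, huc⟩
    rw [heq]
    exact Subgroup.mem_inf.2 ⟨huc ▸ h.conj u a x (hmC.1 hx).1, mul_mem (mul_mem hu (hmC.1 hx).2) (inv_mem hu)⟩
  let Φ : Ω → Prop := fun c => C ≤ U c ∧ s • c = c
  have hΦa : Φ a := ⟨fun x hx => (hmC.1 hx).1, hsa⟩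
  have hΦb : Φ b := ⟨fun x hx => (hmC.1 hx).2, hsb'⟩
  have hdvd : Nat.card (A U a) ∣ Nat.card {c : Ω // Φ c ∧ c ≠ b} := by
    have h1 := card_ne_succ Φ hΦa
    rw [card_ne_succ Φ hΦb, add_left_inj] at h1
    rw [h1]
    refine dvd_card_orbits (A U a) (fun c => Φ c ∧ c ≠ a) (fun z hz c hc => ⟨⟨fun x hx => ?_, ?_⟩, ?_⟩) _
      fun c hc => ?_
    · have h2 := h.conj z c x (hc.1.1 hx)
      rwa [a_central h hz (hmC.1 hx).1, mul_inv_cancel_right] at h2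
    · rw [smul_smul, ← a_central h hz hs.1, mul_smul, hc.1.2]
    · exact fun e0 => hc.2 (smul_left_cancel z (e0.trans (p_fix h (a_le a hz)).symm))
    · have h2 : stabilizer G c ⊓ A U a = ⊥ := (Subgroup.eq_bot_iff_forall _).2 fun z hz =>
        p_semireg h hc.2 (a_le a hz.2) (mem_stabilizer_iff.1 hz.1)
      rw [← Subgroup.inf_relIndex_right, h2, Subgroup.relIndex_bot_left]
  let M : G → Prop := fun g => g ∈ N ∧ g⁻¹ * s * g * s⁻¹ ∈ S'
  have hsU : ∀ {g}, g ∈ U b → s * g * s⁻¹ ∈ U b := fun {g} hg => by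
    have := h.conj s b g hg; rwa [hsb'] at this
  have hMiff : ∀ {g}, g ∈ N → (g⁻¹ * s * g * s⁻¹ ∈ S' ↔ s • g • a = g • a) := fun {g} hg => by
    have h1 : g⁻¹ * s * g * s⁻¹ ∈ U b := by
      rw [show g⁻¹ * s * g * s⁻¹ = g⁻¹ * (s * g * s⁻¹) by group]
      exact mul_mem (inv_mem hg.2) (hsU hg.2)
    rw [hmS, and_iff_right h1, mul_smul, inv_smul_eq_iff.2 hsa.symm, mul_smul, mul_smul, inv_smul_eq_iff]
  let rep : {c : Ω // Φ c ∧ c ≠ b} → G := fun c => (hreach c.1 c.2.1.1 c.2.2).choose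
  have hrepN : ∀ c, rep c ∈ N := fun c => (hreach c.1 c.2.1.1 c.2.2).choose_spec.1
  have hrep : ∀ c, rep c • a = c.1 := fun c => (hreach c.1 c.2.1.1 c.2.2).choose_spec.2
  have hcard1 : Nat.card {g // M g} = Nat.card {c : Ω // Φ c ∧ c ≠ b} * Nat.card S' := by
    rw [← Nat.card_prod]
    refine (Nat.card_eq_of_bijective (fun p : {c : Ω // Φ c ∧ c ≠ b} × S' => (⟨rep p.1 * p.2,
      mul_mem (hrepN _) (hS'N p.2.2), (hMiff (mul_mem (hrepN _) (hS'N p.2.2))).2 ?_⟩ : {g // M g})) ⟨?_, ?_⟩).symm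
    · rw [mul_smul (rep p.1), (hmS.1 p.2.2).2, hrep, p.1.2.1.2]
    · rintro ⟨c, k⟩ ⟨c', k'⟩ e0
      have e1 : rep c * (k : G) = rep c' * k' := congrArg Subtype.val e0
      have e2 : c = c' := Subtype.ext (by
        have := congrArg (· • a) e1
        simpa only [mul_smul, (hmS.1 k.2).2, (hmS.1 k'.2).2, hrep] using this)
      subst e2
      exact Prod.ext rfl (Subtype.ext (mul_left_cancel e1))
    · rintro ⟨g, hg, hgs⟩
      have hgb := hbfix hg.2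
      let c : {c : Ω // Φ c ∧ c ≠ b} := ⟨g • a, ⟨fun x hx => by
          have h2 := h.conj g a _ (hmC.1 (hNC' hg hx)).1
          rwa [show g * (g⁻¹ * x * g) * g⁻¹ = x by group] at h2, (hMiff hg).1 hgs⟩,
        fun e0 => hab (smul_left_cancel g (hgb.trans e0.symm))⟩
      refine ⟨(c, ⟨(rep c)⁻¹ * g, hmS.2 ⟨mul_mem (inv_mem (hrepN c).2) hg.2, ?_⟩⟩), Subtype.ext ?_⟩
      · rw [mul_smul, inv_smul_eq_iff, hrep]
      · exact mul_inv_cancel_left _ g
  have hMO : ∀ {g}, M g → g ∈ O := fun {g} hg => by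
    obtain ⟨p, hp, o, ho, hoo, rfl⟩ := exists_po h hg.1.2
    have ho' : s * o * s⁻¹ ∈ U b := hsU ho
    have ho'' : Odd (orderOf (s * o * s⁻¹)) := by rwa [← MulAut.conj_apply, MulEquiv.orderOf_eq]
    have hp' : p⁻¹ * (s * p * s⁻¹) ∈ P U b := mul_mem (inv_mem hp) (p_conj_fix h hsb' hp)
    have hk : (p * o)⁻¹ * s * (p * o) * s⁻¹ = p⁻¹ * (s * p * s⁻¹) * (o⁻¹ * (s * o * s⁻¹)) := by
      rw [show (p * o)⁻¹ * s * (p * o) * s⁻¹ = o⁻¹ * (p⁻¹ * (s * p * s⁻¹)) * (s * o * s⁻¹) by group,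
        ← commute_odd h hp' (inv_mem ho) (by rwa [orderOf_inv]), mul_assoc]
    have hkO : (p * o)⁻¹ * s * (p * o) * s⁻¹ ∈ O :=
      hOmem (hmS.1 hg.2).1 (odd_two_point h hab (hmS.1 hg.2).2 (hbfix (hmS.1 hg.2).1))
    rw [hk] at hkO
    have hp1 : p⁻¹ * (s * p * s⁻¹) = 1 := eq_one_two_odd (p_two h hp')
      (hOodd ((mul_mem_cancel_right (mul_mem (inv_mem (hOmem ho hoo)) (hOmem ho' ho''))).1 hkO))
    rw [inv_mul_eq_one, eq_mul_inv_iff_mul_eq] at hp1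
    suffices p = 1 by rw [this, one_mul]; exact hOmem ho hoo
    by_contra hpne
    obtain ⟨k, hk2⟩ := p_two h hp
    obtain ⟨l, -, hl⟩ := (Nat.dvd_prime_pow Nat.prime_two).1 (orderOf_dvd_of_pow_eq_one hk2)
    rcases l with _ | l
    · exact hpne (orderOf_eq_one_iff.1 (by rw [hl, pow_zero]))
    refine free h hab.symm hs.1 hsb' hsb (z := p ^ 2 ^ l) (invol_mem_a h ?_ (p_fix h (pow_mem hp _))) ?_
      ((show Commute s p from hp1.symm).pow_right _).eq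
    · rw [← pow_add, ← two_mul, ← pow_succ', ← hl, pow_orderOf_eq_one]
    · intro e0
      have := Nat.le_of_dvd (by positivity) (orderOf_dvd_of_pow_eq_one e0)
      rw [hl, pow_succ] at this
      have := Nat.two_pow_pos l
      omega
  let K : Subgroup G :=
    { carrier := {k | (k ∈ N ∧ k ∈ O) ∧ k⁻¹ * s * k * s⁻¹ ∈ C}
      one_mem' := ⟨⟨one_mem _, one_mem _⟩, by simp⟩
      mul_mem' := fun {k l} hk hl => ⟨⟨mul_mem hk.1.1 hl.1.1, mul_mem hk.1.2 hl.1.2⟩, by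
        rw [show (k * l)⁻¹ * s * (k * l) * s⁻¹ =
          l⁻¹ * (k⁻¹ * s * k * s⁻¹) * l * (l⁻¹ * s * l * s⁻¹) by group]
        exact mul_mem (hNC' hl.1.1 hk.2) hl.2⟩
      inv_mem' := fun {k} hk => ⟨⟨inv_mem hk.1.1, inv_mem hk.1.2⟩, by
        rw [show k⁻¹⁻¹ * s * k⁻¹ * s⁻¹ = (k * (k⁻¹ * s * k * s⁻¹) * k⁻¹)⁻¹ by group]
        exact inv_mem (hNC hk.1.1 hk.2)⟩ }
  let ψ : {g // M g} → ↥S' ⧸ C.subgroupOf S' := fun g => ((⟨_, g.2.2⟩ : S') : ↥S' ⧸ C.subgroupOf S')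
  let sec : Set.range ψ → {g // M g} := fun y => y.2.choose
  have hsec : ∀ y, ψ (sec y) = y.1 := fun y => y.2.choose_spec
  have hψ : ∀ g g' : {g // M g}, ψ g = ψ g' → ∃ c ∈ C,
      g'.1⁻¹ * s * g'.1 * s⁻¹ = g.1⁻¹ * s * g.1 * s⁻¹ * c := fun g g' e0 =>
    ⟨_, Subgroup.mem_subgroupOf.1 (QuotientGroup.eq.1 e0), by simp [mul_assoc]⟩
  have hcard2 : Nat.card {g // M g} = Nat.card (Set.range ψ) * Nat.card K := by
    rw [← Nat.card_prod]
    have hmem : ∀ (g : {g // M g}) (k : K), M (k.1 * g.1) ∧ ∃ c ∈ C,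
        (k.1 * g.1)⁻¹ * s * (k.1 * g.1) * s⁻¹ = c * (g.1⁻¹ * s * g.1 * s⁻¹) := fun g k => by
      have h1 : (k.1 * g.1)⁻¹ * s * (k.1 * g.1) * s⁻¹ =
          g.1⁻¹ * (k.1⁻¹ * s * k.1 * s⁻¹) * g.1 * (g.1⁻¹ * s * g.1 * s⁻¹) := by group
      exact ⟨⟨mul_mem k.2.1.1 g.2.1, h1 ▸ mul_mem (hCS (hNC' g.2.1 k.2.2)) g.2.2⟩, _, hNC' g.2.1 k.2.2, h1⟩
    refine (Nat.card_eq_of_bijective
      (fun p : Set.range ψ × K => (⟨p.2.1 * (sec p.1).1, (hmem (sec p.1) p.2).1⟩ : {g // M g})) ⟨?_, ?_⟩).symm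
    · rintro ⟨y, k⟩ ⟨y', k'⟩ e0
      have hval : ∀ (y : Set.range ψ) (k : K), ψ ⟨k.1 * (sec y).1, (hmem (sec y) k).1⟩ = y.1 := fun y k => by
        rw [← hsec y, eq_comm]
        obtain ⟨-, c, hc, e⟩ := hmem (sec y) k
        refine QuotientGroup.eq.2 (Subgroup.mem_subgroupOf.2 ?_)
        show ((sec y).1⁻¹ * s * (sec y).1 * s⁻¹)⁻¹ * ((k.1 * (sec y).1)⁻¹ * s * (k.1 * (sec y).1) * s⁻¹) ∈ C
        rw [e, ← mul_assoc]
        have := hnormS _ (inv_mem (sec y).2.2) c hc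
        rwa [inv_inv] at this
      obtain rfl : y = y' := Subtype.ext ((hval y k).symm.trans ((congrArg ψ e0).trans (hval y' k')))
      exact Prod.ext rfl (Subtype.ext (mul_right_cancel (congrArg Subtype.val e0)))
    · intro g
      let y : Set.range ψ := ⟨ψ g, g, rfl⟩
      obtain ⟨c, hc, e⟩ := hψ (sec y) g (hsec y)
      obtain ⟨r, hr, hrM⟩ : ∃ r, (sec y).1 = r ∧ M r := ⟨_, rfl, (sec y).2⟩
      rw [hr] at e
      refine ⟨(y, ⟨g.1 * r⁻¹, ⟨mul_mem g.2.1 (inv_mem hrM.1), mul_mem (hMO g.2) (inv_mem (hMO hrM))⟩, ?_⟩),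
        Subtype.ext (by show g.1 * r⁻¹ * (sec y).1 = g.1; rw [hr, inv_mul_cancel_right])⟩
      have h1 : (g.1 * r⁻¹)⁻¹ * s * (g.1 * r⁻¹) * s⁻¹ =
          r * ((r⁻¹ * s * r * s⁻¹) * c * (r⁻¹ * s * r * s⁻¹)⁻¹) * r⁻¹ := by
        rw [show (g.1 * r⁻¹)⁻¹ * s * (g.1 * r⁻¹) * s⁻¹ =
          r * (g.1⁻¹ * s * g.1 * s⁻¹) * (s * r⁻¹ * s⁻¹) by group, e]
        group
      rw [h1]
      exact hNC hrM.1 (hnormS _ hrM.2 c hc)
  have hKodd : Odd (Nat.card K) := hsp.odd.of_dvd_nat (Subgroup.card_dvd_of_le fun k hk => hk.1.2)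
  have hqY : Nat.card (A U a) ∣ Nat.card (Set.range ψ) := by
    obtain ⟨n, hn⟩ := IsPGroup.iff_card.1 ((isPGroup_p h a).to_le (a_le a))
    refine (Nat.Coprime.dvd_mul_right (n := Nat.card K) ?_).1 (hcard2 ▸ hcard1 ▸ dvd_mul_of_dvd_left hdvd _)
    rw [hn]
    exact Nat.Coprime.pow_left _ (Nat.coprime_two_left.2 hKodd)
  have hY : Nat.card (Set.range ψ) ≤ C.relIndex S' :=
    Nat.card_le_card_of_injective _ Subtype.val_injective
  haveI : Nonempty (Set.range ψ) := ⟨⟨_, ⟨1, one_mem _, by simp⟩, rfl⟩⟩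
  have := Nat.le_of_dvd Nat.card_pos hqY
  omega

end Cfsg.Agent.Transfer.RankOneCor
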