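import Cfsg.Prelude.Def_Involutions
import Cfsg.Agent.Lib.Transfer.RankOneCor.Basic

/-!
A simple group with a strongly embedded subgroup having a normal subgroup regular on the other cosets.
-/

set_option autoImplicit false
set_option linter.unusedSectionVars false
set_option linter.style.haveILetI false

namespace Cfsg.Agent.Transfer.RankOneCor

open MulAction

universe u

/-- A group of complementary subgroups: `|S| = |Q| |D|`. -/
theorem card_of_split {G : Type u} [Group G] [Finite G] {S Q D : Subgroup G} (hQ : Q ≤ S) (hD : D ≤ S)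
    (hdis : Q ⊓ D = ⊥) (hmul : ∀ h ∈ S, ∃ u ∈ Q, u⁻¹ * h ∈ D) : Nat.card S = Nat.card Q * Nat.card D := by
  rw [← Nat.card_prod]
  refine (Nat.card_eq_of_bijective (fun p : Q × D => (⟨(p.1 : G) * p.2, mul_mem (hQ p.1.2) (hD p.2.2)⟩ : S))
    ⟨fun p q e => ?_, fun h => ?_⟩).symm
  · have e' : (p.1 : G) * p.2 = q.1 * q.2 := congrArg Subtype.val e
    have h1 : (q.1 : G)⁻¹ * p.1 = q.2 * (p.2 : G)⁻¹ := by
      rw [eq_mul_inv_iff_mul_eq, mul_assoc, e', inv_mul_cancel_left]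
    have h2 : (q.1 : G)⁻¹ * p.1 ∈ Q ⊓ D :=
      Subgroup.mem_inf.2 ⟨mul_mem (inv_mem q.1.2) p.1.2, h1 ▸ mul_mem q.2.2 (inv_mem p.2.2)⟩
    rw [hdis, Subgroup.mem_bot, inv_mul_eq_one] at h2
    refine Prod.ext (Subtype.ext h2.symm) (Subtype.ext ?_)
    rw [h2] at e'
    exact mul_left_cancel e'
  · obtain ⟨u, hu, hd⟩ := hmul h h.2
    exact ⟨(⟨u, hu⟩, ⟨_, hd⟩), Subtype.ext (mul_inv_cancel_left u (h : G))⟩

theorem exists_regular_setup {G : Type u} [Group G] [Finite G] [IsSimpleGroup G] {H : Subgroup G}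
    (hH : Cfsg.IsStronglyEmbedded H) {Q : Subgroup G} (hQH : Q ≤ H) (hQn : (Q.subgroupOf H).Normal)
    (htrans : ∀ g₁ g₂ : G, g₁ ∉ H → g₂ ∉ H → ∃ u ∈ Q, g₂⁻¹ * (u * g₁) ∈ H)
    (hreg : ∀ g : G, g ∉ H → ∀ u ∈ Q, g⁻¹ * (u * g) ∈ H → u = 1) :
    FaithfulSMul G (G ⧸ H) ∧ (∃ t : G, Cfsg.IsRankOneSetup G (G ⧸ H) ((1 : G) : G ⧸ H) t Q) ∧
      ∃ x y : G, x * y ≠ y * x := by
  obtain ⟨hne, heven, hodd⟩ := hH
  haveI : Fact (Nat.Prime 2) := ⟨Nat.prime_two⟩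
  have hst : ∀ g h : G, h • (g : G ⧸ H) = (g : G ⧸ H) ↔ g⁻¹ * h * g ∈ H := fun g h => by
    rw [MulAction.Quotient.smul_mk, eq_comm, QuotientGroup.eq, smul_eq_mul, mul_assoc]
  have hfa : FaithfulSMul G (G ⧸ H) := by
    have hcore : H.normalCore = ⊥ := by
      rcases (inferInstance : H.normalCore.Normal).eq_bot_or_eq_top with h | h
      · exact h
      · exact absurd (top_unique (h ▸ H.normalCore_le)) hne
    refine ⟨fun {g₁ g₂} h => ?_⟩
    have h1 : g₂⁻¹ * g₁ ∈ H.normalCore := fun b => by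
      have h3 := h ((b⁻¹ : G) : G ⧸ H)
      rw [← eq_inv_smul_iff] at h3
      have h4 := (hst b⁻¹ (g₂⁻¹ * g₁)).1 (by rw [mul_smul, h ((b⁻¹ : G) : G ⧸ H), inv_smul_smul])
      simpa using h4
    rw [hcore, Subgroup.mem_bot, inv_mul_eq_one] at h1
    exact h1.symm
  have hone : ∀ {h : G}, h ∈ stabilizer G ((1 : G) : G ⧸ H) ↔ h ∈ H := fun {h} => by
    rw [mem_stabilizer_iff, hst, inv_one, one_mul, mul_one]
  obtain ⟨z, hz⟩ := exists_prime_orderOf_dvd_card' (G := H) 2 heven.two_dvd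
  have hzG : orderOf (z : G) = 2 := by rw [Subgroup.orderOf_coe, hz]
  obtain ⟨g, hg⟩ : ∃ g : G, g * z * g⁻¹ ∉ H := by
    by_contra! hall
    have hle : Subgroup.normalClosure {(z : G)} ≤ H := (Subgroup.closure_le _).2 fun x hx => by
      obtain ⟨y, hy, hc⟩ := Group.mem_conjugatesOfSet_iff.1 hx
      rw [Set.mem_singleton_iff] at hy
      subst hy
      obtain ⟨k, rfl⟩ := isConj_iff.1 hc
      exact hall k
    rcases (inferInstance : (Subgroup.normalClosure {(z : G)}).Normal).eq_bot_or_eq_top with h | h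
    · have h1 : (z : G) ∈ Subgroup.normalClosure {(z : G)} := Subgroup.subset_normalClosure rfl
      rw [h, Subgroup.mem_bot] at h1
      rw [h1, orderOf_one] at hzG
      exact absurd hzG (by norm_num)
    · exact hne (top_unique (h ▸ hle))
  obtain ⟨t, rfl⟩ : ∃ t, t = g * (z : G) * g⁻¹ := ⟨_, rfl⟩
  have ht2 : orderOf (g * (z : G) * g⁻¹) = 2 := by rw [← MulAut.conj_apply, MulEquiv.orderOf_eq, hzG]
  generalize g * (z : G) * g⁻¹ = t at hg ht2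
  have htt : t * t = 1 := by rw [← pow_two]; exact orderOf_dvd_iff_pow_eq_one.1 ht2.dvd
  have hb : t • ((1 : G) : G ⧸ H) = (t : G ⧸ H) := by rw [MulAction.Quotient.smul_mk, smul_eq_mul, mul_one]
  have hstb : ∀ {h : G}, h ∈ stabilizer G (t • ((1 : G) : G ⧸ H)) ↔ t⁻¹ * h * t ∈ H := fun {h} => by
    rw [hb, mem_stabilizer_iff, hst]
  have hmove : ∀ g₁ g₂ : G, g₁ ∉ H → g₂ ∉ H → ∃ u ∈ Q, u • (g₁ : G ⧸ H) = (g₂ : G ⧸ H) := fun g₁ g₂ h1 h2 => by
    obtain ⟨u, hu, h⟩ := htrans g₁ g₂ h1 h2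
    refine ⟨u, hu, ?_⟩
    rw [MulAction.Quotient.smul_mk, eq_comm, QuotientGroup.eq]
    exact h
  have hnorm : ∀ h ∈ H, ∀ x ∈ Q, h * x * h⁻¹ ∈ Q := fun h hh x hx =>
    Subgroup.mem_subgroupOf.1 (hQn.conj_mem ⟨x, hQH hx⟩ (Subgroup.mem_subgroupOf.2 hx) ⟨h, hh⟩)
  have hinf : Q ⊓ stabilizer G (t • ((1 : G) : G ⧸ H)) = ⊥ := by
    refine eq_bot_iff.2 fun u hu => Subgroup.mem_bot.2 (hreg t hg u hu.1 ?_)
    rw [← mul_assoc]
    exact hstb.1 hu.2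
  have hsplit : ∀ h ∈ H, ∃ u ∈ Q, u⁻¹ * h ∈ stabilizer G ((1 : G) : G ⧸ H) ⊓ stabilizer G (t • ((1 : G) : G ⧸ H)) := by
    intro h hh
    have hht : h * t ∉ H := fun h' => hg ((mul_mem_cancel_left hh).1 h')
    obtain ⟨u, hu, e⟩ := hmove t (h * t) hg hht
    refine ⟨u, hu, hone.2 (mul_mem (inv_mem (hQH hu)) hh), mem_stabilizer_iff.2 ?_⟩
    rw [hb, mul_smul, MulAction.Quotient.smul_mk, smul_eq_mul, ← e, inv_smul_smul]
  have hDodd : Odd (Nat.card ↥(stabilizer G ((1 : G) : G ⧸ H) ⊓ stabilizer G (t • ((1 : G) : G ⧸ H)))) := by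
    refine (hodd t hg).of_dvd_nat (Subgroup.card_dvd_of_le fun h hh => ⟨hone.1 hh.1, ?_⟩)
    exact ⟨t⁻¹ * h * t, hstb.1 hh.2, by simp [MulAut.conj_apply, mul_assoc]⟩
  have hQeven : Even (Nat.card Q) := by
    have hc := card_of_split (S := H) hQH (D := stabilizer G ((1 : G) : G ⧸ H) ⊓ stabilizer G (t • ((1 : G) : G ⧸ H)))
      (fun h hh => hone.1 hh.1) (eq_bot_iff.2 fun u hu => hinf ▸ ⟨hu.1, hu.2.2⟩) hsplit
    rw [hc, Nat.even_mul] at heven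
    exact heven.resolve_right (Nat.not_even_iff_odd.2 hDodd)
  refine ⟨hfa, ⟨t, ?_, htt, fun h => ?_, fun h => hg (hone.1 h), fun u hu => hone.2 (hQH hu),
    fun h hh => hnorm h (hone.1 hh), hinf, ?_, hQeven, hDodd⟩, ?_⟩
  · rw [is_two_pretransitive_iff]
    intro c₁ c₂ d₁ d₂ hc hd
    obtain ⟨x₁, rfl⟩ := QuotientGroup.mk_surjective c₁
    obtain ⟨x₂, rfl⟩ := QuotientGroup.mk_surjective c₂
    obtain ⟨y₁, rfl⟩ := QuotientGroup.mk_surjective d₁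
    obtain ⟨y₂, rfl⟩ := QuotientGroup.mk_surjective d₂
    obtain ⟨u, hu, e⟩ := hmove (x₁⁻¹ * x₂) (y₁⁻¹ * y₂) (fun h => hc (QuotientGroup.eq.2 h))
      (fun h => hd (QuotientGroup.eq.2 h))
    refine ⟨y₁ * u * x₁⁻¹, ?_, ?_⟩
    · rw [MulAction.Quotient.smul_mk, smul_eq_mul, inv_mul_cancel_right, QuotientGroup.eq, mul_inv_rev,
        inv_mul_cancel_right]
      exact inv_mem (hQH hu)
    · rw [mul_smul, mul_smul, MulAction.Quotient.smul_mk,
        smul_eq_mul, e, MulAction.Quotient.smul_mk, smul_eq_mul, mul_inv_cancel_left]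
  · rw [h, orderOf_one] at ht2
    exact absurd ht2 (by norm_num)
  · refine le_antisymm (sup_le (fun u hu => hone.2 (hQH hu)) inf_le_left) fun h hh => ?_
    obtain ⟨u, hu, hd⟩ := hsplit h (hone.1 hh)
    rw [show h = u * (u⁻¹ * h) by group]
    exact mul_mem (Subgroup.mem_sup_left hu) (Subgroup.mem_sup_right hd)
  · by_contra! hcomm
    have hn : H.Normal := ⟨fun x hx k => by rwa [hcomm k x, mul_inv_cancel_right]⟩
    rcases hn.eq_bot_or_eq_top with h | h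
    · rw [h, Subgroup.card_bot] at heven
      exact absurd heven (by decide)
    · exact hne h

theorem s1222_of {G : Type u} [Group G] [Finite G] [IsSimpleGroup G] (hC : Classif.{u, u}) {H : Subgroup G}
    (hH : Cfsg.IsStronglyEmbedded H) {Q : Subgroup G} (hQH : Q ≤ H) (hQn : (Q.subgroupOf H).Normal)
    (htrans : ∀ g₁ g₂ : G, g₁ ∉ H → g₂ ∉ H → ∃ u ∈ Q, g₂⁻¹ * (u * g₁) ∈ H)
    (hreg : ∀ g : G, g ∉ H → ∀ u ∈ Q, g⁻¹ * (u * g) ∈ H → u = 1) :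
    (∃ (F : Type) (_ : Field F) (_ : Fintype F), CharP F 2 ∧ 4 ≤ Fintype.card F ∧
        Nonempty (G ≃* Matrix.ProjectiveSpecialLinearGroup (Fin 2) F)) ∨ Cfsg.IsSuzuki G ∨
      (∃ (F : Type) (_ : Field F) (_ : Fintype F) (q : ℕ), Fintype.card F = q ^ 2 ∧ Even q ∧ 4 ≤ q ∧
        Nonempty (G ≃* Cfsg.PSU 3 F q)) := by
  obtain ⟨hf, ⟨t, hS⟩, hnc⟩ := exists_regular_setup hH hQH hQn htrans hreg
  have heven : Even (Nat.card G) := even_iff_two_dvd.2 (hH.2.1.two_dvd.trans (Subgroup.card_subgroup_dvd_card H))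
  have h4 : ∀ {n : ℕ}, 2 ≤ n → 4 ≤ 2 ^ n := fun {n} hn =>
    (show (4 : ℕ) = 2 ^ 2 from rfl) ▸ Nat.pow_le_pow_right (by norm_num) hn
  rcases simple_form hC hS (exists_commuting hnc heven) with
    ⟨F, iF, iFF, n, hn, hq, he⟩ | h | ⟨F, iF, iFF, n, hn, hq, he⟩
  · haveI : Fact (Nat.Prime 2) := ⟨Nat.prime_two⟩
    exact Or.inl ⟨F, iF, iFF, charP_of_card_eq_prime_pow hq, hq ▸ h4 hn, he⟩
  · exact Or.inr (Or.inl h)
  · exact Or.inr (Or.inr ⟨F, iF, iFF, 2 ^ n, hq, (Nat.even_pow' (by omega)).2 even_two, h4 hn, he⟩)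

end Cfsg.Agent.Transfer.RankOneCor
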